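import Cfsg.Agent.G24Iso.Block
import Cfsg.Agent.Screen.CosetEnum.SuzOrd.SuzL2.Checked

/-!
# Certificates for the rank three action on 416 points
-/

set_option autoImplicit false
set_option maxRecDepth 20000

namespace Cfsg.Agent.G24Iso

open Cfsg.Agent.Screen.CosetEnum

/-- The orbit of size 315. -/
def orbMask315 : ℕ := 0xfffffef27fefe53f3f1cf8ffffcf9ffc89f8fd19b3ffcf64fff70d9e9b7fb49ff4b6b7d4bfadafabfeb5f7ffadffffbffffffffe
/-- Its chain. -/
def orbChain315 : List (ℕ × ℕ) := [(1, 1), (0, 2), (2, 2), (1, 3), (2, 3), (3, 4), (0, 5), (2, 5), (1, 6), (3, 6), (2, 7), (4, 7), (2, 8), (1, 9), (3, 9), (0, 10), (3, 10), (2, 11), (4, 11), (1, 12), (4, 12), (1, 14), (3, 14), (0, 15), (3, 15), (2, 16), (4, 16), (1, 17), (3, 17), (2, 18), (4, 18), (1, 20), (4, 20), (0, 22), (4, 22), (3, 23), (3, 24), (2, 25), (4, 25), (3, 19), (2, 26), (4, 26), (1, 27), (4, 27), (3, 29), (2, 30), (4, 30), (1, 31), (3, 31), (4, 31), (0, 34), (4, 34), (3, 35), (1, 36), (4, 36), (3, 37), (2, 39), (4, 40), (4, 41), (4, 33), (1, 43), (4, 43), (4, 45), (3, 46), (4, 47), (4, 48), (0, 50), (3, 50), (4, 50), (2, 51), (4, 51),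 (3, 52), (4, 55), (3, 56), (2, 58), (4, 53), (3, 59), (2, 61), (1, 63), (3, 65), (4, 66), (3, 67), (3, 68), (2, 69), (3, 71), (1, 72), (4, 72), (4, 73), (3, 74), (4, 76), (3, 77), (2, 78), (3, 80), (2, 82), (1, 84), (3, 79), (2, 85), (1, 87), (3, 87), (0, 89), (2, 90), (3, 91), (2, 92), (2, 93), (1, 94), (2, 95), (4, 96), (3, 97), (3, 99), (2, 101), (3, 103), (2, 104), (1, 105), (2, 107), (1, 109), (3, 109), (0, 111), (2, 106), (1, 112), (3, 112), (0, 114), (3, 114), (4, 115), (1, 117), (1, 119), (2, 120), (1, 121), (1, 122), (3, 122), (0, 123), (1, 124), (3, 125), (2, 127), (2, 130), (1, 132), (3, 132), (2, 134), (1, 135), (3, 135), (0, 136), (1, 138), (3, 138), (0, 140), (3, 140), (2, 141), (4, 141), (1, 143), (1, 137), (0, 145), (3, 145), (4, 146), (1, 148), (3, 148), (2, 149), (4, 149), (0, 154), (2, 154), (0, 156), (1, 157), (3, 157), (0, 158), (0, 159), (3, 159), (2, 160), (1, 161), (0, 163), (2, 164), (1, 167), (1, 170), (3, 170), (0, 172), (3, 172), (4, 173), (1, 175), (0, 176), (3, 176), (1, 178), (0, 181), (3, 181), (4, 182), (1, 184), (3, 184), (2, 185), (4, 185), (1, 187), (4,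 187), (0, 191), (2, 191), (0, 180), (1, 193), (3, 193), (2, 194), (4, 194), (0, 199), (2, 199), (3, 199), (2, 200), (4, 200), (3, 202), (4, 202), (2, 208), (3, 209), (1, 210), (0, 212), (3, 212), (1, 214), (1, 216), (3, 216), (2, 217), (1, 219), (0, 220), (2, 220), (1, 221), (1, 223), (3, 223), (0, 226), (0, 229), (3, 229), (4, 230), (1, 232), (4, 233), (0, 238), (1, 239), (3, 239), (2, 240), (0, 242), (2, 242), (1, 246), (3, 246), (2, 247), (4, 247), (0, 252), (2, 252), (3, 252), (4, 253), (1, 255), (4, 255), (0, 259), (4, 259), (3, 260), (1, 245), (0, 266), (2, 266), (3, 266), (2, 267), (4, 267), (3, 269), (4, 269), (2, 275), (3, 275), (3, 276), (2, 277), (4, 277), (1, 279), (4, 279), (4, 271), (3, 283), (3, 222), (2, 243), (0, 287), (3, 215), (2, 290), (0, 291), (2, 291), (1, 293), (0, 295), (2, 296), (0, 298), (2, 298), (0, 299), (3, 299), (1, 304), (3, 304), (2, 305), (4, 305), (3, 314), (3, 317), (3, 320), (3, 321), (2, 322), (4, 322), (4, 234), (3, 339), (3, 344), (3, 345), (2, 346), (4, 346), (4, 347), (4, 195), (3, 318), (2, 352), (4, 352), (2, 316), (1, 353), (3, 353), (4, 356),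 (3, 357), (2, 371), (2, 374), (3, 376), (2, 378), (2, 380), (2, 385), (2, 388), (4, 388), (2, 377), (3, 389), (1, 393), (3, 393), (3, 395), (1, 406), (3, 406), (3, 409), (3, 412)]
/-- Words fixing the first point. -/
def stabWords315 : List (List ℕ) := [[0], [2], [3], [4], [1, 0, 1, 0, 2, 1, 3, 2, 3, 1, 0, 1, 2, 0, 1]]
/-- Representatives. -/
def repList315 : List ℕ := [2, 5, 10, 22, 24]
/-- Covering steps. -/
def stepList315 : List (ℕ × ℕ) := [(0, 2), (1, 2), (4, 2), (1, 3), (4, 3), (2, 4), (1, 20), (3, 20), (3, 12), (3, 7), (3, 11), (2, 35), (4, 35), (2, 23), (4, 23), (4, 13), (4, 21), (1, 58), (4, 58), (2, 370), (4, 370), (1, 39), (4, 39), (2, 303), (4, 303), (2, 226), (4, 226), (4, 84), (1, 385), (2, 385), (2, 356), (0, 5), (1, 5), (4, 5), (1, 8), (4, 8), (2, 9), (1, 41), (3, 41), (3, 27), (3, 16), (3, 25), (2, 65), (4, 65), (2, 46), (4, 46), (4, 28), (4, 42), (1, 90), (4, 90), (2, 402), (4, 402), (1, 69), (4, 69), (2, 377), (4, 377), (2, 380), (4, 380), (4, 119), (1, 346), (2, 346), (2, 388), (0, 10), (1, 10), (2, 10), (4, 10), (1, 17), (2, 17), (4, 17), (2, 15), (4, 15), (1, 18), (3,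 18), (4, 18), (1, 66), (2, 66), (3, 66), (2, 19), (1, 30), (3, 30), (3, 76), (3, 26), (3, 51), (3, 31), (4, 32), (3, 53), (3, 45), (3, 43), (2, 91), (4, 91), (3, 33), (3, 48), (4, 49), (2, 103), (4, 103), (4, 44), (2, 77), (4, 77), (2, 52), (4, 52), (1, 316), (2, 316), (3, 316), (4, 316), (2, 79), (4, 79), (2, 68), (4, 68), (2, 67), (4, 67), (1, 120), (4, 120), (2, 214), (4, 214), (4, 54), (2, 71), (2, 241), (3, 241), (4, 241), (1, 134), (4, 134), (2, 158), (4, 158), (2, 176), (3, 176), (4, 176), (1, 104), (4, 104), (2, 215), (4, 215), (1, 78), (4, 78), (2, 306), (3, 306), (4, 306), (3, 375), (1, 276), (3, 276), (2, 243), (4, 243), (2, 410), (1, 106), (4, 106), (2, 229), (3, 229), (4, 229), (1, 93), (4, 93), (2, 212), (4, 212), (1, 92), (4, 92), (3, 304), (2, 157), (4, 157), (1, 369), (2, 369), (3, 369), (4, 369), (1, 245), (3, 245), (2, 349), (3, 349), (4, 349), (2, 239), (3, 239), (4, 239), (1, 95), (4, 95), (1, 318), (3, 318), (2, 179), (4, 179), (2, 396), (2, 175), (2, 379), (3, 379), (4, 379), (1, 180), (3, 180), (2, 391), (3, 391), (4, 391), (1, 240), (3, 240), (2, 136), (2, 376), (2,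 367), (3, 244), (3, 348), (2, 234), (4, 234), (2, 311), (4, 311), (2, 332), (1, 209), (4, 209), (4, 365), (1, 378), (2, 172), (4, 172), (2, 298), (3, 290), (3, 270), (2, 355), (2, 232), (4, 232), (3, 195), (3, 193), (3, 315), (2, 294), (1, 222), (4, 222), (3, 268), (3, 145), (1, 163), (4, 326), (1, 264), (4, 154), (1, 216), (1, 218), (0, 22), (2, 22), (3, 22), (4, 22), (2, 36), (3, 36), (4, 36), (1, 34), (3, 34), (4, 34), (2, 37), (4, 37), (3, 73), (3, 55), (2, 59), (4, 59), (3, 96), (3, 50), (2, 56), (4, 56), (3, 72), (1, 61), (4, 61), (2, 151), (3, 151), (4, 151), (2, 80), (4, 80), (1, 85), (4, 85), (2, 196), (3, 196), (4, 196), (2, 74), (4, 74), (1, 82), (4, 82), (1, 143), (2, 143), (4, 143), (2, 97), (4, 87), (1, 130), (4, 130), (1, 188), (3, 188), (4, 115), (1, 107), (4, 107), (2, 111), (4, 111), (3, 249), (4, 146), (1, 101), (4, 101), (2, 140), (3, 140), (4, 140), (4, 109), (1, 335), (2, 335), (3, 335), (4, 335), (2, 184), (3, 184), (4, 184), (2, 283), (3, 283), (4, 283), (1, 127), (4, 127), (3, 235), (4, 141), (2, 327), (2, 357), (3, 357), (4, 182), (2, 287), (1, 366), (2, 24), (4,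 24), (1, 40), (3, 40), (3, 47), (4, 64), (4, 70), (2, 412), (2, 409)]

/-- Pairs from the representative 2. -/
def how315_2 : List (ℕ × ℕ) := [(0, 0), (0, 2), (1, 1), (1, 2), (2, 1), (2, 3), (3, 0), (3, 2), (4, 1), (4, 3), (5, 0), (5, 3), (6, 2), (6, 4), (7, 2), (8, 1), (8, 3), (9, 0), (9, 3), (10, 2), (10, 4), (11, 1), (11, 3), (12, 2), (13, 1), (13, 4), (15, 1), (15, 3), (16, 0), (16, 3), (17, 2), (17, 4), (18, 1), (18, 3), (19, 2), (19, 4), (20, 1), (20, 4), (22, 0), (22, 3), (23, 2), (24, 1), (24, 4), (25, 0), (25, 4), (26, 3), (27, 0), (27, 3), (28, 2), (28, 4), (29, 3), (30, 2), (30, 4), (31, 1), (31, 4), (33, 0), (33, 3), (34, 2), (34, 4), (35, 1), (35, 3), (35, 4), (37, 0), (37, 4), (38, 3), (39, 3), (40, 2), (41, 1), (42, 0), (42, 4), (43, 3), (44, 1), (44, 4), (45, 3), (46, 2), (47, 3), (48, 2), (48, 4), (49, 1), (49, 4), (51, 2), (51, 4), (52, 3), (52, 4), (54, 0), (55, 3), (56, 3), (57, 2), (57, 4), (58, 1), (58, 3), (58, 4), (60, 0), (60, 3), (60, 4), (61, 2), (61, 4), (62, 3), (63, 4), (64, 3), (65, 2), (66, 2), (67, 1), (67, 3), (68, 0), (68, 4), (69, 1), (69, 4), (70, 3),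 (71, 2), (72, 0), (72, 2), (72, 4), (73, 3), (74, 2), (75, 1), (76, 2), (77, 3), (79, 0), (80, 3), (81, 4), (83, 4), (84, 3), (85, 1), (86, 2), (87, 2), (88, 3), (90, 3), (91, 4), (92, 3), (93, 3), (93, 4), (94, 2), (95, 3), (96, 1), (96, 4), (97, 3), (98, 2), (99, 3), (100, 2), (101, 1), (102, 1), (103, 0), (103, 3), (103, 4), (104, 2), (104, 4), (105, 1), (106, 3), (107, 0), (108, 3), (109, 2), (110, 1), (111, 4), (112, 4), (113, 3), (114, 2), (115, 1), (115, 3), (116, 0), (117, 3), (118, 4), (119, 1), (120, 2), (121, 3), (122, 3), (123, 2), (124, 0), (125, 1), (126, 1), (127, 2), (127, 4), (128, 4), (129, 3), (130, 2), (131, 4), (133, 4), (134, 2), (135, 4), (136, 3), (137, 2), (138, 1), (139, 2), (140, 1), (141, 0), (142, 4), (143, 4), (144, 4), (145, 3), (146, 4), (147, 3), (148, 4), (149, 2), (150, 4), (151, 2), (152, 1), (153, 0), (154, 3), (155, 3), (156, 2), (157, 3), (158, 0), (159, 2), (160, 1), (161, 4), (162, 3), (163, 0), (163, 4), (165, 2), (166, 2), (168, 4), (169, 0), (170, 4), (171, 4), (172, 3), (173, 3), (174, 2), (175, 1), (176, 3), (177, 3), (178, 1), (179, 3), (180,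 2), (181, 1), (181, 3), (182, 0), (184, 0), (185, 1), (186, 3), (187, 3), (188, 3), (189, 2), (190, 3), (191, 2), (192, 3), (193, 1), (193, 3), (194, 3), (195, 1), (196, 0), (197, 1), (198, 2), (199, 2), (200, 1), (202, 1), (203, 1), (204, 0), (205, 3), (206, 2), (207, 4), (208, 3), (210, 1), (210, 3), (211, 3), (212, 1), (213, 3), (214, 3), (215, 2), (216, 2), (217, 1), (217, 3), (218, 0), (219, 2), (220, 2), (221, 0), (222, 2), (223, 1), (223, 3), (224, 0), (226, 1), (228, 2), (229, 2), (230, 2), (231, 2), (232, 1), (233, 2), (234, 1), (235, 2), (236, 0), (237, 2), (238, 2), (239, 0), (240, 1), (241, 0), (242, 1), (243, 1), (244, 0), (245, 0), (246, 0), (247, 2), (248, 2), (249, 1), (250, 3), (251, 2), (252, 0), (254, 2), (255, 0), (256, 2), (257, 2), (258, 1), (259, 1), (260, 0), (260, 3), (262, 1), (263, 1), (264, 1), (265, 1), (266, 1), (267, 0), (267, 3), (269, 3), (270, 0), (271, 3), (272, 1), (273, 1), (274, 1), (275, 0), (276, 1), (277, 0), (278, 1), (279, 1), (280, 1), (281, 1), (282, 1), (283, 0), (284, 2), (285, 0), (286, 0), (287, 3), (288, 3), (289, 1), (290, 3), (291, 1), (292,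 0), (293, 2), (294, 1), (295, 3), (296, 1), (297, 2), (298, 1), (299, 1), (300, 0), (301, 0), (302, 3), (303, 2), (304, 2), (305, 0), (306, 0), (307, 0), (308, 0), (309, 3), (310, 2), (311, 2), (312, 2), (313, 2), (314, 0), (315, 0), (316, 0), (317, 1), (318, 0), (319, 1), (320, 0), (321, 0), (322, 0), (323, 3), (324, 2), (325, 2), (326, 1), (326, 3), (327, 3), (328, 3), (329, 2), (330, 2), (331, 0), (332, 2), (333, 0), (334, 3), (335, 1), (336, 0), (337, 2), (338, 0), (338, 3), (339, 1), (340, 0), (341, 0), (342, 1), (343, 1), (343, 3), (344, 2), (345, 3), (346, 3), (347, 1), (348, 1), (349, 2), (350, 1), (350, 3), (351, 2), (352, 3), (353, 1), (354, 3), (355, 1), (355, 4), (356, 1), (357, 1), (358, 1), (359, 0), (360, 1), (361, 0), (361, 2), (362, 3), (363, 3), (364, 1), (365, 2), (366, 3), (367, 3), (368, 3), (369, 2), (370, 2), (371, 2), (372, 1), (373, 1), (374, 2), (375, 1), (375, 4), (376, 3), (377, 2), (378, 3), (379, 3), (380, 1), (381, 3), (382, 2), (382, 4), (383, 3), (384, 1), (385, 1), (386, 0), (386, 3), (387, 0), (387, 3), (388, 2), (389, 1), (390, 2), (391, 2), (392, 2), (393,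 2), (394, 3), (395, 3), (396, 2), (397, 1), (398, 2), (399, 0), (400, 2), (401, 4), (402, 3), (403, 0), (403, 3), (404, 2), (405, 2), (406, 3), (407, 0), (407, 2), (408, 3), (409, 3), (410, 2), (411, 2), (412, 0), (412, 2), (413, 3), (414, 2), (415, 2), (416, 2), (417, 1), (418, 1), (419, 1), (420, 0), (421, 3), (422, 1), (423, 4), (424, 3), (425, 2), (426, 1), (427, 2), (427, 4), (428, 2), (429, 0), (430, 2), (430, 4), (431, 3), (431, 4), (433, 2), (433, 4), (434, 0), (434, 3), (435, 3), (436, 3), (437, 2), (438, 3), (439, 2), (440, 1), (441, 0), (442, 1), (443, 1), (444, 3), (445, 3), (446, 2), (447, 2), (448, 1), (449, 0), (450, 1), (451, 1), (451, 3), (452, 1), (453, 3), (454, 2), (455, 3), (456, 2), (457, 3), (458, 3), (459, 2), (460, 3), (461, 3), (462, 2), (463, 2), (464, 1), (465, 1), (466, 2), (467, 3), (468, 2), (469, 1), (470, 1), (471, 1), (472, 0), (473, 0), (474, 0), (474, 3), (475, 1), (476, 2), (477, 3), (478, 3), (479, 2), (480, 1), (481, 0), (481, 3), (482, 3), (482, 4), (484, 1), (485, 1), (486, 3), (486, 4), (488, 2), (488, 4), (489, 3), (490, 1), (490, 4), (492, 3), (493,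 2), (494, 2), (495, 2), (496, 3), (497, 2), (498, 1), (499, 0), (499, 4), (500, 1), (501, 0), (501, 4), (502, 0), (503, 2), (504, 2), (505, 1), (506, 1), (507, 0), (507, 4), (508, 1), (510, 3), (511, 2), (512, 0), (513, 2), (514, 1), (515, 2), (517, 2), (518, 2), (519, 1), (520, 2), (521, 2), (522, 1), (523, 1), (524, 0), (525, 4), (526, 1), (526, 3), (527, 2), (528, 1), (529, 3), (529, 4), (530, 0), (531, 0), (532, 1), (533, 1), (534, 1), (534, 3), (536, 0), (536, 4), (537, 3), (538, 2), (539, 2), (540, 1), (541, 0), (542, 1), (542, 3), (544, 4), (545, 3), (546, 0), (547, 3), (548, 4), (549, 3), (550, 4), (551, 3), (552, 2), (553, 0), (554, 3), (555, 2), (558, 1), (558, 3), (560, 1), (561, 0), (562, 4), (564, 3), (568, 1), (569, 1), (575, 2), (575, 4), (576, 1), (578, 1), (579, 0), (580, 1), (581, 1), (581, 3), (582, 1), (583, 4), (584, 1), (585, 1), (587, 3), (587, 4), (588, 1), (589, 3), (590, 3), (590, 4), (593, 0), (594, 2), (594, 4), (595, 3), (597, 1), (600, 3), (600, 4), (602, 4), (603, 3), (604, 2), (606, 1), (607, 0), (608, 1), (609, 3), (613, 1), (614, 2), (614, 4), (620, 1), (622,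 1), (623, 3), (625, 3), (625, 4), (629, 4), (631, 1), (631, 3), (633, 0), (633, 3), (634, 0), (634, 3), (637, 3), (639, 3), (639, 4), (640, 3), (642, 3), (643, 2), (644, 3), (646, 2), (647, 2), (649, 1), (650, 3), (654, 2), (656, 3), (657, 2), (659, 0), (662, 2), (664, 1), (664, 3), (666, 4), (668, 2), (669, 2), (672, 0), (676, 3), (678, 2), (681, 2), (682, 2), (687, 2), (690, 2)]
/-- Their tree. -/
def tree315_2 : List (ℕ × Bool) := [(0, false), (1, false), (2, false), (4, false), (6, false), (10, false), (13, false), (14, false), (20, false), (21, false), (26, false), (38, false), (46, false), (65, false), (75, false), (101, false), (609, true), (623, true), (636, false), (637, false), (645, false), (653, false), (661, true), (662, true), (667, false), (668, true), (678, false), (687, false), (693, true), (697, true), (701, false), (704, false), (3, false), (9, false), (19, false), (25, false), (36, false), (37, false), (45, false), (64, false), (74, false), (100, false), (116, false), (141, false), (542, true), (558, true), (580, false), (581, false), (588, false), (597, false), (608,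 true), (610, true), (622, false), (624, true), (638, false), (649, false), (686, false), (689, false), (7, false), (18, false), (34, false), (44, false), (59, false), (63, false), (73, false), (99, false), (114, false), (139, false), (160, false), (185, false), (481, true), (496, true), (516, false), (524, false), (531, false), (541, true), (543, true), (556, false), (557, true), (559, true), (592, false), (593, false), (650, false), (688, false), (8, false), (16, false), (35, false), (60, false), (62, false), (95, false), (115, false), (140, false), (158, false), (184, false), (495, true), (515, false), (517, false), (532, false), (555, false), (577, false), (591, false), (596, false), (598, false), (601, false), (647, false), (654, false), (15, false), (29, false), (58, false), (92, false), (93, false), (132, false), (157, false), (183, false), (202, false), (227, false), (437, true), (456, false), (472, false), (493, false), (494, true), (512, false), (527, false), (530, false), (535, false), (570, false), (594, false), (651, false), (17, false), (30, false), (61, false), (94, false),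 (98, false), (159, false), (436, true), (567, false), (590, false), (600, false), (28, false), (51, false), (91, false), (130, false), (131, false), (201, false), (386, true), (502, false), (529, false), (599, false), (31, false), (52, false), (96, false), (138, false), (536, false), (583, false), (32, false), (53, false), (97, false), (137, false), (648, false), (655, false), (49, false), (81, false), (83, false), (175, false), (525, false), (602, false), (50, false), (82, false), (129, false), (174, false), (595, false), (652, false), (55, false), (84, false), (136, false), (181, false), (603, false), (640, false), (80, false), (121, false), (122, false), (217, false), (589, false), (656, false), (86, false), (123, false), (180, false), (225, false), (657, false), (681, false), (120, false), (165, false), (166, false), (261, false), (646, false), (690, false), (125, false), (167, false), (223, false), (253, false), (691, false), (702, false), (164, false), (209, false), (210, false), (268, false), (685, false), (705, false), (483, true), (490, true), (510, true), (566, false), (675, true),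 (700, true), (338, true), (561, false), (563, false), (586, false), (587, false), (680, false), (383, true), (562, false), (612, true), (629, true), (630, true), (670, true), (381, true), (625, true), (626, false), (627, false), (641, false), (671, true), (433, true), (545, true), (565, false), (574, true), (663, false), (696, false), (482, true), (491, true), (509, false), (547, true), (666, false), (677, true), (427, true), (501, false), (554, true), (564, true), (679, false), (684, false), (432, true), (550, true), (572, false), (575, true), (633, true), (676, true), (378, true), (499, false), (621, true), (628, true), (639, false), (644, false), (382, true), (617, true), (619, true), (632, true), (643, false), (692, true), (430, true), (573, false), (611, true), (659, true), (665, true), (669, true), (487, true), (507, false), (544, true), (614, true), (634, true), (674, true), (488, true), (489, true), (618, true), (631, true), (635, true), (672, true), (431, true), (551, true), (552, true), (660, true), (673, true), (683, false), (486, true), (607, true), (615, true), (616, true), (695,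 true), (698, true), (548, true), (549, true), (571, false), (579, true), (664, true), (699, true), (33, false), (57, false), (89, false), (605, false), (658, false), (27, false), (48, false), (78, false), (703, false), (694, true)]
/-- Pairs from the representative 5. -/
def how315_5 : List (ℕ × ℕ) := [(0, 0), (0, 1), (0, 2), (1, 1), (1, 2), (2, 2), (3, 1), (3, 3), (4, 0), (4, 2), (5, 1), (5, 3), (6, 1), (6, 3), (7, 0), (7, 3), (8, 2), (8, 4), (9, 2), (10, 1), (10, 3), (11, 0), (11, 3), (12, 2), (12, 4), (13, 0), (13, 3), (14, 2), (15, 1), (15, 3), (16, 2), (17, 1), (17, 4), (19, 1), (19, 3), (20, 0), (20, 3), (21, 2), (21, 4), (22, 3), (23, 2), (24, 1), (24, 4), (26, 1), (27, 2), (28, 1), (29, 0), (29, 2), (29, 3), (30, 2), (31, 1), (31, 3), (32, 0), (32, 4), (33, 3), (34, 0), (35, 2), (35, 4), (36, 1), (37, 2), (38, 1), (38, 4), (40, 2), (40, 4), (41, 1), (41, 3), (42, 0), (42, 4), (43, 3), (44, 3), (45, 1), (45, 3), (46, 4), (47, 3), (48, 3), (49, 2), (49, 4), (50, 1), (50, 3), (51, 0), (51, 3), (52, 2), (52, 4), (53, 1), (53, 4), (54, 3), (55, 2), (56, 1), (57, 1), (57, 4), (59, 3), (60,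 1), (60, 3), (61, 0), (61, 4), (62, 3), (63, 1), (63, 3), (65, 3), (65, 4), (66, 2), (66, 4), (67, 1), (68, 3), (69, 2), (70, 2), (71, 3), (71, 4), (72, 4), (73, 3), (74, 2), (74, 4), (75, 2), (75, 4), (76, 1), (76, 3), (76, 4), (78, 0), (79, 4), (80, 3), (80, 4), (81, 2), (81, 4), (82, 1), (82, 4), (83, 3), (84, 0), (84, 4), (85, 3), (86, 2), (87, 1), (88, 3), (89, 0), (89, 4), (90, 3), (91, 2), (91, 4), (92, 3), (93, 4), (94, 4), (95, 3), (96, 2), (97, 0), (98, 4), (99, 2), (100, 3), (101, 4), (102, 3), (103, 0), (103, 2), (103, 4), (104, 2), (105, 1), (106, 3), (107, 4), (108, 3), (109, 3), (110, 2), (111, 3), (111, 4), (113, 1), (113, 4), (115, 0), (116, 2), (116, 4), (117, 3), (118, 4), (119, 3), (120, 4), (121, 3), (122, 1), (122, 4), (123, 3), (124, 4), (125, 3), (126, 2), (127, 4), (128, 3), (129, 2), (130, 1), (130, 3), (131, 0), (132, 4), (133, 4), (134, 3), (135, 2), (136, 4), (138, 4), (139, 3), (140, 3), (141, 2), (143, 4), (144, 3), (145, 4), (146, 2), (147, 3), (148, 2), (149, 2), (149, 4), (150, 4), (151, 3), (152, 1), (152, 3), (153, 0), (154, 4), (155, 3), (156, 2), (157,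 2), (158, 1), (159, 4), (160, 3), (161, 4), (162, 3), (163, 4), (164, 4), (165, 3), (166, 2), (167, 3), (168, 2), (169, 3), (170, 2), (171, 0), (172, 3), (173, 2), (174, 3), (175, 2), (176, 1), (177, 3), (178, 2), (179, 1), (180, 0), (181, 2), (182, 1), (184, 3), (185, 2), (187, 3), (188, 3), (189, 2), (190, 2), (191, 3), (192, 3), (193, 2), (194, 3), (195, 1), (196, 2), (197, 1), (198, 4), (199, 3), (201, 2), (202, 0), (202, 3), (203, 2), (204, 1), (205, 3), (206, 2), (207, 1), (208, 1), (209, 0), (209, 3), (210, 3), (211, 2), (212, 3), (213, 2), (214, 3), (215, 3), (216, 2), (218, 2), (219, 1), (220, 2), (221, 1), (223, 2), (224, 1), (225, 2), (226, 1), (227, 0), (227, 3), (228, 2), (229, 3), (230, 0), (231, 3), (232, 1), (233, 0), (233, 2), (234, 2), (235, 1), (236, 2), (237, 2), (238, 1), (239, 1), (240, 2), (241, 2), (242, 1), (243, 2), (244, 0), (245, 1), (246, 0), (246, 3), (248, 2), (250, 1), (251, 2), (252, 1), (253, 0), (253, 2), (254, 2), (255, 1), (256, 0), (257, 0), (257, 3), (258, 3), (259, 2), (260, 2), (262, 2), (264, 2), (265, 2), (266, 1), (266, 3), (267, 1), (268, 0), (269,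 1), (270, 0), (271, 1), (272, 0), (273, 1), (274, 0), (275, 1), (275, 3), (276, 2), (277, 3), (279, 1), (279, 3), (280, 2), (281, 0), (282, 2), (284, 1), (285, 0), (287, 1), (288, 0), (288, 3), (289, 0), (290, 1), (291, 1), (292, 0), (292, 3), (293, 1), (294, 1), (295, 0), (295, 3), (296, 3), (297, 2), (299, 0), (300, 4), (301, 0), (302, 2), (304, 1), (305, 0), (306, 1), (307, 1), (307, 3), (308, 2), (309, 2), (310, 4), (311, 3), (312, 3), (313, 1), (314, 1), (314, 3), (315, 0), (317, 3), (318, 1), (318, 3), (319, 0), (320, 1), (321, 0), (322, 1), (322, 3), (323, 0), (324, 1), (324, 3), (325, 0), (326, 2), (327, 3), (329, 2), (330, 2), (331, 4), (332, 4), (334, 0), (335, 1), (336, 0), (336, 3), (337, 3), (338, 2), (339, 1), (340, 0), (341, 3), (342, 3), (343, 2), (344, 0), (345, 0), (346, 3), (347, 2), (348, 2), (349, 3), (350, 3), (351, 3), (352, 1), (354, 0), (355, 1), (355, 3), (356, 0), (357, 0), (358, 2), (359, 3), (360, 4), (361, 3), (364, 0), (365, 0), (367, 1), (368, 2), (369, 0), (370, 2), (371, 3), (372, 2), (373, 1), (373, 3), (374, 3), (375, 2), (376, 1), (377, 0), (377, 2), (378,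 2), (379, 3), (380, 1), (381, 2), (382, 3), (383, 1), (384, 3), (385, 3), (386, 1), (387, 0), (388, 3), (389, 2), (390, 2), (391, 3), (392, 0), (392, 2), (392, 3), (393, 1), (394, 2), (395, 2), (396, 3), (397, 1), (398, 3), (399, 2), (400, 3), (401, 1), (401, 3), (402, 4), (403, 2), (404, 2), (405, 0), (406, 1), (407, 3), (408, 2), (409, 3), (410, 3), (411, 1), (412, 2), (413, 3), (414, 2), (415, 1), (416, 1), (417, 0), (418, 3), (419, 3), (420, 1), (421, 2), (422, 3), (423, 2), (424, 2), (425, 2), (426, 1), (427, 2), (428, 3), (429, 3), (430, 1), (431, 2), (432, 0), (433, 1), (434, 2), (435, 0), (435, 3), (436, 2), (437, 2), (438, 3), (439, 3), (440, 2), (441, 3), (442, 1), (442, 3), (443, 2), (443, 4), (444, 3), (445, 3), (446, 2), (446, 4), (447, 0), (448, 3), (449, 1), (449, 3), (450, 2), (450, 4), (451, 2), (452, 2), (453, 1), (453, 3), (454, 2), (454, 4), (455, 0), (456, 4), (458, 1), (459, 1), (460, 2), (461, 0), (462, 2), (463, 1), (464, 2), (465, 2), (466, 0), (467, 1), (468, 2), (469, 1), (470, 2), (471, 0), (472, 3), (473, 4), (474, 2), (475, 0), (476, 1), (477, 2), (478, 3), (479,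 1), (480, 1), (481, 0), (481, 4), (482, 3), (483, 2), (484, 2), (485, 0), (486, 1), (487, 1), (488, 0), (488, 4), (489, 1), (490, 3), (491, 2), (492, 1), (493, 1), (494, 2), (494, 4), (495, 2), (496, 1), (497, 4), (498, 0), (499, 4), (500, 4), (502, 2), (502, 4), (503, 2), (503, 4), (504, 3), (504, 4), (506, 2), (507, 4), (508, 0), (509, 4), (510, 4), (512, 3), (513, 1), (514, 0), (515, 4), (516, 4), (518, 1), (520, 3), (520, 4), (521, 0), (522, 1), (523, 3), (524, 1), (525, 0), (525, 4), (526, 4), (527, 1), (528, 1), (529, 0), (530, 1), (531, 0), (532, 3), (533, 3), (534, 2), (536, 1), (537, 1), (538, 0), (539, 1), (540, 2), (541, 0), (542, 0), (542, 4), (543, 1), (543, 4), (544, 3), (545, 2), (546, 1), (547, 1), (548, 1), (550, 3), (551, 1), (551, 4), (553, 3), (553, 4), (554, 2), (556, 0), (557, 0), (560, 1), (561, 0), (563, 1), (566, 3), (566, 4), (568, 1), (568, 4), (572, 1), (574, 1), (577, 2), (578, 3), (578, 4), (579, 1), (582, 3), (583, 2), (583, 4), (584, 3), (585, 1), (586, 3), (586, 4), (587, 2), (588, 0), (588, 4), (589, 4), (591, 3), (593, 3), (594, 1), (595, 0), (596, 1), (597,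 2), (598, 2), (599, 1), (601, 3), (602, 1), (603, 3), (604, 1), (605, 1), (606, 4), (607, 3), (608, 0), (608, 4), (611, 1), (613, 4), (615, 2), (615, 4), (616, 0), (616, 2), (616, 4), (618, 2), (618, 4), (619, 3), (621, 1), (622, 1), (623, 4), (624, 1), (625, 3), (628, 4), (630, 3), (631, 3), (632, 1), (633, 4), (634, 3), (636, 2), (636, 4), (637, 3), (637, 4), (638, 3), (640, 0), (640, 2), (641, 2), (643, 1), (647, 2), (648, 2), (648, 4), (649, 0), (650, 1), (651, 0), (652, 1), (653, 1), (657, 2), (659, 4), (662, 4), (664, 3), (664, 4), (665, 3), (666, 3), (668, 2), (669, 3), (671, 3), (674, 0), (674, 2), (678, 2), (678, 4), (680, 2), (683, 3), (685, 3), (687, 2), (694, 1), (695, 3), (697, 2), (698, 0), (702, 3), (705, 2), (714, 3)]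
/-- Their tree. -/
def tree315_5 : List (ℕ × Bool) := [(0, false), (1, false), (3, false), (5, false), (8, false), (12, false), (17, false), (18, false), (24, false), (25, false), (33, false), (43, false), (55, false), (69, false), (87, false), (105, false), (582, true), (625, true), (631, true), (635, true), (636, true), (678, true), (681, true), (682, true), (685, true), (686, true), (693, true), (700, false), (714, true), (715, true), (718, true), (726, true), (9, true), (29, false), (49, false), (77, false), (84, false), (103, false), (128, false), (151, false), (178, false), (201, false), (233, false), (253, false), (401, true), (442, true), (449, true), (453, true), (456, true), (499, true), (509, true), (515, true), (519, true), (564, true), (575, true), (580, true), (692, false), (719, false), (4, true), (47, false), (74, false), (112, false), (127, false), (149, false), (177, false), (199, false), (228, false), (248, false), (282, false), (302, false), (349, true), (391, true), (396, true), (400, true), (402, true), (443, true), (450, true), (454, true), (457, true), (501, true),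 (511, true), (517, true), (671, false), (711, false), (19, true), (48, false), (76, false), (117, false), (150, false), (200, false), (229, false), (249, false), (283, false), (303, false), (348, true), (390, true), (395, true), (399, true), (473, false), (497, true), (507, false), (535, false), (562, true), (573, false), (641, false), (687, false), (10, true), (59, true), (111, false), (160, false), (198, false), (247, false), (277, false), (297, true), (298, false), (333, false), (338, true), (343, true), (347, true), (353, false), (500, true), (510, true), (516, true), (565, true), (576, true), (581, true), (618, false), (672, false), (35, true), (75, false), (116, false), (166, false), (171, true), (278, false), (296, true), (555, false), (586, false), (637, false), (21, true), (91, true), (159, false), (211, false), (222, true), (246, true), (328, false), (553, false), (620, false), (677, true), (57, true), (113, false), (164, false), (217, false), (578, false), (583, false), (58, true), (114, false), (165, false), (216, false), (642, false), (688, false), (38, true), (136, true), (161,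 true), (261, false), (520, false), (633, false), (39, true), (137, true), (210, false), (260, false), (619, false), (673, false), (90, true), (162, false), (215, false), (266, false), (634, false), (638, false), (62, true), (187, true), (212, true), (311, false), (584, false), (683, false), (135, true), (213, false), (265, false), (316, false), (684, false), (689, false), (96, true), (236, true), (262, true), (362, false), (639, false), (717, false), (186, true), (263, false), (314, false), (363, true), (698, true), (699, false), (142, true), (286, true), (312, true), (366, false), (651, false), (723, true), (392, false), (481, true), (550, false), (608, false), (660, true), (675, false), (444, false), (543, true), (593, false), (607, true), (662, false), (703, false), (438, false), (544, true), (601, false), (606, true), (656, false), (663, false), (445, false), (542, true), (609, true), (614, false), (659, false), (704, false), (446, false), (488, true), (615, false), (616, false), (645, true), (713, true), (502, false), (551, true), (648, false), (661, true), (668, false), (720, false),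 (494, false), (610, true), (612, true), (623, true), (655, false), (679, true), (503, false), (549, true), (613, false), (629, false), (658, false), (706, false), (504, false), (529, true), (590, true), (666, false), (669, false), (674, true), (505, false), (552, true), (588, true), (667, false), (670, false), (691, true), (558, false), (559, false), (592, true), (628, true), (676, true), (701, true), (568, false), (569, false), (600, true), (654, true), (664, false), (665, false), (566, false), (594, true), (646, true), (695, false), (709, false), (712, true), (567, false), (617, true), (644, true), (696, false), (705, false), (707, false), (525, true), (570, false), (571, false), (640, true), (708, false), (710, false), (589, true), (626, false), (627, false), (690, true), (721, false), (725, false), (22, false), (40, false), (64, false), (702, false), (724, false), (88, true), (132, true), (183, true), (716, true), (722, false)]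
/-- Pairs from the representative 10. -/
def how315_10 : List (ℕ × ℕ) := [(0, 0), (0, 1), (0, 2), (0, 3), (1, 1), (1, 2), (1, 3), (2, 0), (2, 3), (3, 1), (3, 3), (4, 2), (4, 4), (5, 0), (5, 2), (5, 3), (6, 1), (6, 3), (7, 2), (7, 4), (8, 1), (8, 3), (9, 2), (10, 0), (10, 3), (11, 2), (11, 4), (12, 1), (12, 3), (12, 4), (14, 1), (14, 3), (15, 1), (15, 3), (16, 2), (17, 0), (17, 3), (18, 2), (18, 4), (19, 1), (19, 3), (19, 4), (21, 0), (21, 3), (22, 2), (23, 1), (23, 4), (24, 1), (24, 3), (25, 2), (26, 1), (26, 3), (26, 4), (28, 0), (28, 3), (28, 4), (29, 2), (29, 4), (30, 3), (31, 0), (31, 2), (31, 3), (32, 2), (33, 0), (34, 2), (35, 1), (35, 3), (35, 4), (36, 1), (36, 3), (37, 2), (38, 1), (38, 4), (40, 0), (40, 3), (40, 4), (41, 4), (42, 3), (43, 3), (44, 2), (45, 1), (46, 0), (47, 3), (48, 0), (48, 2), (48, 3), (49, 2), (50, 1), (50, 3), (50, 4), (51, 0), (51, 3), (52, 4), (53, 3), (54, 1), (54, 3), (54, 4), (55, 2), (56, 3), (57, 1), (57, 4), (58, 3), (59, 2), (60, 2), (60, 3), (62, 2), (63, 1), (63, 3), (64, 3), (65, 3), (66, 0), (66, 3), (66, 4), (67, 2), (67, 4), (68, 3), (69, 0), (69,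 3), (70, 2), (71, 1), (71, 4), (72, 0), (72, 4), (73, 3), (74, 3), (75, 2), (75, 4), (76, 3), (77, 3), (78, 2), (79, 2), (80, 1), (81, 0), (81, 3), (81, 4), (82, 1), (82, 4), (83, 2), (84, 3), (85, 3), (86, 2), (87, 1), (87, 4), (88, 0), (88, 3), (89, 2), (90, 3), (91, 1), (91, 3), (92, 2), (93, 3), (94, 2), (95, 0), (96, 4), (97, 3), (98, 1), (98, 4), (99, 2), (100, 0), (100, 4), (101, 3), (102, 2), (105, 2), (106, 1), (107, 0), (107, 4), (108, 4), (110, 4), (111, 1), (111, 3), (111, 4), (112, 2), (113, 3), (114, 4), (115, 3), (116, 2), (117, 3), (118, 2), (119, 1), (120, 0), (120, 4), (121, 3), (122, 4), (123, 3), (124, 2), (125, 2), (126, 3), (126, 4), (127, 3), (128, 2), (129, 2), (131, 1), (132, 0), (133, 1), (133, 3), (133, 4), (136, 0), (137, 3), (138, 1), (139, 2), (140, 2), (141, 1), (141, 3), (142, 0), (143, 3), (144, 1), (145, 2), (146, 1), (147, 2), (148, 2), (149, 2), (150, 3), (150, 4), (151, 2), (153, 3), (153, 4), (154, 3), (155, 2), (156, 4), (157, 3), (158, 3), (159, 4), (160, 3), (161, 2), (162, 1), (162, 3), (163, 1), (164, 0), (164, 4), (165, 1), (165, 3), (165, 4), (167,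 3), (168, 3), (169, 0), (170, 4), (171, 3), (172, 4), (173, 2), (174, 3), (175, 2), (176, 1), (177, 2), (178, 1), (179, 0), (180, 1), (181, 3), (182, 2), (183, 3), (184, 2), (186, 1), (186, 4), (187, 4), (188, 3), (189, 2), (190, 1), (190, 3), (191, 1), (191, 3), (192, 4), (193, 4), (194, 4), (197, 4), (198, 2), (199, 0), (200, 1), (200, 3), (201, 3), (202, 0), (203, 2), (203, 4), (204, 1), (205, 2), (206, 0), (206, 2), (206, 3), (206, 4), (207, 3), (208, 4), (209, 1), (210, 4), (211, 3), (211, 4), (212, 4), (213, 3), (214, 1), (214, 3), (215, 4), (216, 3), (217, 2), (218, 1), (219, 3), (220, 2), (221, 2), (222, 3), (223, 2), (224, 1), (224, 3), (225, 0), (225, 3), (227, 4), (228, 4), (230, 3), (230, 4), (231, 4), (233, 2), (234, 2), (235, 4), (236, 3), (237, 2), (238, 3), (239, 1), (240, 2), (241, 1), (242, 0), (243, 1), (244, 0), (245, 1), (246, 4), (247, 2), (248, 1), (249, 2), (250, 1), (251, 3), (251, 4), (252, 3), (253, 3), (254, 2), (255, 1), (256, 0), (257, 2), (258, 0), (260, 3), (261, 3), (262, 3), (263, 3), (264, 1), (265, 1), (266, 4), (267, 4), (268, 4), (269, 4), (270, 4), (271,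 3), (272, 4), (273, 1), (274, 3), (274, 4), (275, 4), (278, 4), (279, 3), (280, 0), (281, 3), (282, 4), (283, 3), (285, 2), (286, 0), (288, 3), (289, 2), (290, 1), (292, 2), (293, 1), (294, 1), (295, 2), (296, 1), (297, 0), (299, 3), (300, 2), (301, 3), (302, 3), (303, 4), (304, 3), (305, 3), (306, 1), (307, 1), (308, 3), (309, 2), (310, 1), (311, 2), (312, 0), (313, 1), (314, 0), (314, 3), (315, 1), (316, 4), (317, 4), (318, 4), (320, 1), (321, 0), (322, 1), (323, 0), (323, 3), (324, 4), (326, 2), (327, 2), (328, 1), (329, 0), (330, 1), (331, 1), (332, 3), (333, 2), (334, 2), (335, 2), (336, 2), (337, 0), (338, 0), (338, 2), (339, 3), (340, 3), (341, 3), (342, 3), (343, 3), (344, 2), (345, 3), (346, 0), (348, 3), (349, 3), (351, 2), (352, 1), (353, 2), (355, 2), (356, 1), (357, 3), (358, 2), (359, 1), (361, 1), (362, 0), (363, 0), (364, 1), (365, 0), (366, 1), (366, 3), (367, 2), (368, 3), (369, 2), (370, 2), (372, 2), (373, 2), (374, 0), (374, 3), (375, 0), (375, 3), (376, 2), (377, 1), (378, 0), (379, 1), (380, 1), (381, 0), (381, 3), (382, 1), (382, 3), (384, 0), (385, 3), (386, 3), (387,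 3), (388, 0), (389, 1), (390, 3), (391, 1), (392, 2), (393, 3), (394, 1), (395, 1), (396, 0), (397, 1), (399, 0), (400, 2), (401, 1), (401, 3), (402, 1), (403, 1), (404, 1), (405, 1), (406, 2), (407, 3), (408, 2), (409, 2), (410, 2), (411, 2), (412, 2), (413, 1), (414, 2), (415, 1), (416, 2), (417, 2), (418, 1), (419, 0), (420, 1), (421, 1), (422, 0), (423, 2), (424, 1), (425, 0), (425, 3), (426, 0), (427, 1), (427, 3), (428, 1), (430, 1), (431, 2), (432, 2), (433, 1), (434, 2), (435, 1), (436, 1), (437, 1), (438, 1), (439, 1), (439, 3), (441, 1), (441, 3), (443, 1), (444, 0), (445, 1), (446, 3), (447, 0), (448, 1), (448, 3), (450, 0), (452, 2), (453, 2), (454, 2), (455, 2), (456, 1), (457, 0), (459, 3), (460, 1), (461, 2), (462, 0), (463, 0), (463, 3), (464, 1), (466, 1), (467, 1), (468, 0), (469, 2), (470, 0), (471, 0), (472, 3), (473, 2), (474, 1), (475, 2), (476, 1), (477, 1), (478, 1), (479, 1), (480, 1), (481, 0), (482, 1), (483, 2), (484, 1), (485, 1), (486, 0), (487, 2), (488, 0), (488, 3), (489, 0), (490, 1), (491, 1), (492, 3), (493, 3), (494, 2), (495, 1), (496, 0), (496, 2), (497,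 2), (498, 0), (498, 2), (499, 2), (500, 3), (501, 1), (502, 0), (503, 1), (504, 0), (505, 0), (506, 0), (507, 0), (508, 0), (510, 0), (510, 3), (512, 3), (513, 3), (514, 2), (515, 2), (516, 2), (517, 0), (517, 3), (519, 3), (520, 1), (520, 3), (521, 1), (522, 1), (523, 1), (524, 0), (524, 3), (525, 2), (527, 0), (528, 1), (529, 1), (530, 3), (531, 2), (532, 2), (533, 2), (534, 0), (535, 1), (535, 3), (536, 1), (537, 1), (538, 3), (539, 2), (540, 3), (541, 3), (542, 4), (543, 0), (544, 0), (545, 0), (546, 0), (547, 0), (548, 1), (548, 3), (549, 0), (550, 3), (551, 3), (552, 3), (553, 3), (554, 1), (554, 3), (555, 3), (556, 2), (557, 1), (558, 2), (559, 0), (559, 3), (560, 2), (561, 2), (562, 3), (563, 2), (563, 3), (564, 2), (565, 3), (566, 1), (567, 2), (568, 3), (569, 3), (570, 2), (571, 0), (573, 0), (574, 1), (575, 1), (576, 3), (577, 3), (578, 3), (579, 3), (580, 2), (581, 2), (582, 2), (583, 3), (584, 3), (585, 3), (586, 3), (587, 2), (588, 2), (589, 3), (590, 2), (591, 0), (592, 0), (593, 0), (594, 2), (595, 2), (596, 1), (597, 1), (598, 0), (599, 2), (600, 2), (601, 3), (602, 3), (603,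 3), (605, 0), (605, 3), (606, 4), (607, 0), (608, 2), (609, 2), (610, 3), (611, 2), (612, 2), (613, 3), (614, 1), (614, 3), (615, 1), (615, 3), (616, 3), (617, 1), (618, 1), (618, 3), (619, 3), (620, 2), (621, 3), (622, 2), (623, 2), (624, 2), (625, 4), (626, 3), (627, 2), (628, 2), (629, 3), (630, 2), (631, 3), (632, 3), (634, 3), (635, 1), (636, 2), (637, 3), (638, 2), (639, 3), (640, 2), (641, 0), (642, 3), (643, 2), (644, 2), (645, 1), (647, 1), (648, 0), (649, 2), (650, 2), (651, 2), (652, 2), (653, 2), (654, 3), (655, 3), (656, 1), (656, 3), (657, 2), (658, 2), (659, 2), (660, 2), (661, 3), (662, 1), (663, 2), (664, 4), (665, 1), (666, 1), (667, 3), (668, 3), (669, 3), (670, 3), (671, 2), (672, 3), (673, 3), (674, 1), (674, 3), (675, 4), (676, 2), (677, 2), (678, 3), (679, 2), (681, 4), (682, 3), (683, 1), (684, 2), (685, 3), (686, 1), (687, 2), (688, 0), (688, 3), (689, 4), (690, 3), (691, 2), (692, 2), (693, 2), (694, 3), (695, 2), (696, 2), (697, 1), (698, 2), (700, 3), (701, 3), (703, 2), (704, 4), (705, 3), (706, 2), (706, 4), (707, 3), (708, 2), (710, 2), (711, 3), (712, 1), (713,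 2), (714, 3), (715, 2), (717, 1), (718, 4), (720, 1), (721, 0), (722, 0), (723, 3), (724, 3), (725, 1), (726, 3), (727, 1), (728, 1), (729, 2), (730, 2), (731, 0), (732, 4), (733, 3), (734, 1), (735, 4), (736, 1), (737, 2), (738, 3), (739, 1), (741, 0), (742, 2), (743, 2), (744, 2), (745, 2), (746, 2), (747, 3), (748, 4), (749, 2), (750, 0), (751, 4), (755, 2), (756, 4), (758, 2), (759, 0), (759, 4), (760, 1), (761, 4), (762, 0), (763, 1), (764, 3), (765, 2), (767, 2), (768, 1), (769, 1), (770, 3), (771, 2), (772, 1), (774, 0), (775, 1), (776, 2), (777, 4), (778, 1), (780, 4), (783, 2), (785, 1), (787, 0), (788, 3), (789, 2), (791, 3), (793, 3), (794, 3), (795, 2), (796, 2), (797, 2), (798, 0), (799, 4), (800, 3), (801, 3), (802, 1), (803, 1), (804, 1), (804, 3), (807, 0), (809, 3), (810, 1), (811, 2), (811, 4), (812, 0), (813, 3), (814, 3), (815, 1), (816, 4), (818, 1), (821, 3), (822, 1), (822, 3), (824, 1), (824, 4), (825, 3), (826, 1), (827, 1), (827, 4), (828, 3), (829, 0), (831, 1), (832, 0), (833, 2), (834, 4), (836, 0), (837, 0), (838, 2), (840, 0), (841, 1), (842, 0), (842, 4), (843,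 1), (845, 0), (847, 3), (847, 4), (848, 0), (852, 2), (853, 2), (854, 2), (855, 3), (856, 1), (857, 1), (858, 1), (860, 2), (860, 4), (861, 2), (861, 4), (862, 4), (863, 0), (864, 3), (865, 2), (866, 4), (867, 2), (867, 4), (868, 4), (869, 3), (869, 4), (871, 1), (872, 2), (873, 2), (874, 0), (876, 0), (877, 4), (878, 3), (879, 2), (880, 4), (881, 3), (882, 2), (883, 3), (883, 4), (884, 4), (885, 3), (886, 2), (887, 1), (888, 4), (889, 1), (890, 1), (891, 3), (892, 1), (893, 1), (894, 1), (895, 1), (896, 3), (897, 1), (898, 3), (899, 0), (900, 1), (901, 4), (902, 3), (903, 4), (904, 3), (905, 3), (906, 3), (908, 4), (909, 3), (909, 4), (910, 4), (911, 3), (911, 4), (913, 3), (913, 4), (916, 1), (917, 2), (918, 1), (920, 3), (920, 4), (922, 3), (923, 4), (924, 3), (925, 4), (926, 1), (927, 1), (928, 1), (929, 1), (931, 2), (932, 1), (933, 3), (934, 2), (935, 1), (936, 2), (938, 3), (939, 2), (940, 1), (941, 2), (943, 0), (944, 4), (945, 2), (946, 3), (948, 3), (948, 4), (949, 3), (950, 2), (950, 4), (951, 4), (952, 2), (953, 1), (954, 4), (956, 2), (961, 3), (962, 2), (964, 3), (965, 4), (966,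 3), (967, 4), (968, 3), (969, 2), (970, 1), (971, 4), (972, 4), (973, 3), (978, 4), (979, 3), (979, 4), (980, 4), (981, 4), (982, 1), (984, 2), (985, 1), (988, 2), (989, 1), (992, 3), (993, 3), (994, 1), (995, 2), (995, 4), (996, 2), (998, 2), (998, 4), (1001, 3), (1002, 1), (1003, 2), (1005, 1), (1006, 2), (1008, 2), (1018, 3), (1019, 2), (1021, 3), (1025, 0), (1027, 0), (1028, 2), (1029, 2), (1036, 2), (1042, 2), (1044, 2), (1045, 1), (1046, 1), (1047, 3), (1054, 4)]
/-- Their tree. -/
def tree315_10 : List (ℕ × Bool) := [(0, false), (1, false), (3, false), (4, false), (6, false), (7, false), (11, false), (12, false), (13, false), (18, false), (19, false), (20, false), (26, false), (27, false), (29, false), (30, false), (38, false), (39, false), (41, false), (42, false), (52, false), (53, false), (57, false), (58, false), (59, false), (73, false), (77, false), (78, false), (93, false), (94, false), (101, false), (102, false), (103, false), (124, false), (129, false), (130, false), (151, false), (152, false), (161, false), (162, false), (185, false), (191, false), (214, false), (224, false),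 (226, false), (259, false), (287, false), (298, false), (738, true), (800, true), (801, true), (809, true), (811, true), (860, true), (861, true), (867, true), (869, true), (870, true), (880, false), (883, false), (884, false), (888, false), (896, true), (908, false), (909, false), (910, false), (911, true), (912, true), (913, true), (914, true), (920, true), (921, true), (923, true), (924, true), (925, false), (933, false), (936, false), (937, false), (938, false), (941, false), (942, false), (944, false), (946, true), (947, true), (948, false), (949, true), (950, true), (951, false), (954, false), (961, false), (962, false), (963, false), (964, false), (965, true), (966, true), (967, true), (968, true), (969, false), (971, true), (972, true), (973, true), (975, true), (976, true), (977, false), (978, false), (979, false), (980, false), (981, false), (983, true), (984, false), (987, false), (988, false), (991, false), (993, false), (995, true), (996, false), (997, false), (998, true), (999, true), (1000, true), (1001, false), (1003, false), (1004, false), (1006, false), (1007, false), (1008,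 false), (1009, true), (1010, true), (1011, true), (1012, true), (1013, false), (1014, true), (1015, true), (1016, true), (1017, true), (1018, false), (1019, false), (1020, false), (1021, false), (1022, false), (1023, true), (1024, false), (1026, false), (1029, false), (1031, true), (1032, true), (1033, false), (1034, true), (1035, true), (1036, false), (1038, false), (1040, false), (1041, false), (1042, false), (1043, false), (1044, false), (1048, false), (1049, false), (1050, false), (1051, false), (60, true), (64, true), (81, false), (107, false), (135, false), (166, false), (206, false), (246, false), (251, false), (277, false), (291, false), (319, false), (325, false), (360, false), (390, false), (398, false), (429, false), (451, true), (459, false), (465, false), (499, false), (502, false), (509, true), (511, true), (518, true), (534, false), (559, false), (571, false), (606, false), (664, false), (680, false), (681, false), (689, false), (704, false), (732, true), (735, false), (740, false), (748, true), (751, true), (757, false), (761, false), (766, false), (773, true), (779, false),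 (780, false), (790, false), (799, true), (805, true), (806, false), (808, false), (816, false), (820, true), (823, true), (830, false), (835, true), (839, true), (846, false), (849, false), (859, true), (862, true), (866, true), (868, true), (875, false), (877, false), (901, false), (903, false), (915, true), (919, true), (922, true), (930, false), (955, false), (957, false), (958, false), (960, false), (986, false), (990, false), (1030, false), (1037, false), (1052, false), (1053, false), (1054, false), (1055, false), (31, true), (33, true), (133, false), (165, false), (196, false), (232, false), (274, false), (278, true), (348, false), (350, true), (383, true), (440, true), (442, true), (449, true), (572, false), (604, false), (632, false), (646, false), (675, true), (706, false), (716, false), (719, false), (752, true), (753, false), (754, false), (782, false), (784, false), (786, false), (787, false), (788, false), (36, true), (104, true), (164, false), (212, true), (229, false), (284, true), (303, true), (371, true), (718, false), (777, false), (792, false), (844, false), (907, false),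 (959, false), (109, true), (134, false), (276, false), (324, false), (439, true), (458, false), (526, false), (614, false), (633, false), (672, true), (699, false), (702, true), (817, false), (851, false), (974, true), (1039, true), (17, true), (61, true), (228, false), (354, true), (781, false), (819, false), (195, false), (347, false), (374, true), (709, false), (850, false), (230, true)]
/-- Pairs from the representative 22. -/
def how315_22 : List (ℕ × ℕ) := [(0, 0), (0, 1), (0, 3), (0, 4), (1, 1), (1, 3), (1, 4), (2, 0), (2, 2), (2, 3), (2, 4), (3, 2), (3, 4), (4, 3), (5, 0), (5, 2), (5, 3), (5, 4), (6, 2), (6, 4), (7, 3), (8, 1), (8, 2), (8, 3), (8, 4), (9, 4), (10, 2), (10, 4), (11, 3), (12, 1), (12, 3), (12, 4), (13, 3), (14, 2), (15, 1), (15, 2), (15, 3), (16, 3), (17, 2), (17, 4), (18, 3), (19, 1), (19, 3), (19, 4), (20, 3), (21, 2), (22, 0), (22, 2), (22, 3), (22, 4), (23, 1), (24, 2), (24, 4), (25, 3), (26, 3), (27, 1), (27, 4), (28, 3), (29, 2), (30, 0), (30, 3), (30, 4), (31, 4), (32, 3), (33, 2), (34, 1), (34, 3), (35, 0), (35, 2), (35, 3), (35, 4), (36, 1), (36, 3), (36, 4),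 (37, 2), (37, 4), (38, 2), (39, 1), (39, 3), (39, 4), (40, 3), (41, 2), (42, 0), (42, 3), (42, 4), (43, 4), (44, 3), (45, 2), (46, 1), (46, 3), (47, 3), (48, 1), (48, 3), (49, 2), (49, 4), (50, 3), (51, 4), (52, 1), (52, 4), (53, 3), (54, 2), (55, 2), (56, 0), (57, 3), (58, 2), (59, 1), (60, 1), (60, 3), (61, 2), (61, 4), (62, 3), (63, 3), (64, 2), (65, 1), (65, 3), (66, 0), (66, 3), (67, 4), (68, 2), (68, 3), (69, 1), (70, 2), (70, 4), (71, 3), (72, 4), (73, 2), (74, 3), (75, 1), (75, 4), (76, 3), (77, 1), (78, 0), (78, 3), (78, 4), (79, 2), (79, 4), (80, 3), (81, 2), (82, 1), (82, 3), (83, 1), (83, 3), (84, 2), (85, 3), (86, 3), (87, 2), (88, 1), (88, 3), (89, 0), (89, 3), (90, 4), (91, 2), (92, 0), (92, 3), (92, 4), (93, 2), (94, 1), (94, 3), (94, 4), (95, 3), (96, 2), (97, 3), (98, 0), (98, 4), (99, 3), (100, 2), (101, 1), (102, 1), (103, 1), (103, 4), (104, 2), (105, 1), (106, 0), (107, 4), (108, 2), (109, 3), (109, 4), (110, 3), (111, 2), (112, 2), (113, 1), (113, 3), (114, 0), (114, 3), (115, 2), (115, 4), (116, 1), (117, 2), (119, 1), (119, 4), (120, 2), (121, 0), (122, 4), (123,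 3), (124, 2), (125, 3), (126, 1), (127, 2), (128, 0), (128, 4), (129, 3), (130, 2), (131, 3), (132, 1), (132, 3), (132, 4), (133, 2), (133, 4), (134, 3), (135, 1), (136, 3), (137, 2), (138, 1), (138, 3), (139, 0), (139, 3), (140, 2), (141, 2), (143, 3), (143, 4), (144, 2), (145, 2), (147, 0), (147, 3), (148, 4), (149, 3), (150, 2), (152, 1), (152, 3), (152, 4), (153, 3), (153, 4), (154, 2), (155, 3), (156, 1), (157, 0), (157, 4), (158, 2), (158, 4), (159, 3), (160, 2), (161, 1), (162, 2), (163, 1), (163, 4), (164, 3), (165, 2), (166, 1), (167, 3), (168, 0), (169, 0), (169, 2), (169, 4), (170, 3), (171, 1), (172, 0), (173, 3), (174, 3), (175, 1), (175, 4), (176, 2), (176, 4), (177, 3), (178, 2), (179, 1), (179, 3), (180, 3), (181, 3), (182, 4), (183, 1), (184, 2), (185, 4), (187, 2), (188, 3), (188, 4), (189, 3), (190, 3), (191, 1), (191, 3), (191, 4), (192, 4), (193, 3), (194, 2), (195, 3), (196, 2), (198, 1), (199, 1), (200, 3), (201, 2), (202, 1), (203, 4), (204, 0), (204, 2), (204, 3), (204, 4), (205, 2), (206, 3), (207, 1), (208, 3), (209, 2), (211, 2), (212, 1), (213, 3), (214, 2), (215,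 3), (216, 2), (217, 1), (218, 4), (219, 2), (219, 4), (220, 3), (221, 1), (221, 3), (222, 3), (223, 1), (224, 2), (226, 2), (227, 3), (227, 4), (228, 4), (230, 3), (231, 2), (232, 3), (233, 1), (234, 2), (235, 0), (236, 1), (236, 4), (237, 3), (240, 2), (241, 1), (241, 3), (242, 0), (243, 3), (244, 4), (245, 3), (246, 2), (247, 1), (248, 3), (249, 2), (250, 3), (251, 2), (251, 4), (252, 4), (253, 3), (254, 2), (255, 0), (255, 3), (256, 1), (256, 3), (257, 2), (258, 2), (259, 4), (260, 3), (261, 1), (262, 3), (263, 2), (264, 1), (264, 3), (265, 3), (266, 2), (267, 4), (268, 2), (270, 2), (271, 1), (271, 3), (272, 3), (273, 3), (274, 2), (275, 3), (276, 4), (277, 2), (278, 4), (279, 4), (280, 3), (281, 3), (282, 2), (283, 1), (283, 3), (284, 2), (285, 1), (285, 3), (286, 0), (287, 4), (288, 2), (289, 1), (290, 3), (292, 3), (292, 4), (293, 3), (293, 4), (294, 4), (295, 3), (296, 1), (296, 4), (297, 2), (299, 2), (300, 1), (301, 1), (302, 0), (302, 3), (303, 2), (304, 1), (305, 2), (306, 1), (307, 0), (308, 3), (309, 1), (310, 3), (311, 2), (312, 0), (312, 3), (313, 2), (315, 0), (315, 2), (316,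 4), (317, 3), (317, 4), (318, 2), (318, 4), (319, 3), (320, 3), (321, 2), (322, 1), (323, 2), (325, 1), (328, 3), (329, 2), (330, 1), (331, 0), (331, 3), (332, 2), (333, 3), (334, 2), (335, 3), (336, 2), (337, 1), (338, 0), (339, 2), (340, 3), (341, 2), (342, 4), (343, 3), (344, 3), (345, 2), (346, 1), (347, 1), (347, 3), (348, 2), (349, 0), (349, 3), (350, 2), (351, 1), (352, 1), (353, 3), (354, 2), (355, 4), (356, 2), (357, 1), (358, 3), (359, 2), (360, 2), (361, 1), (363, 4), (364, 3), (365, 3), (366, 2), (368, 2), (369, 1), (370, 2), (372, 1), (373, 3), (374, 3), (375, 2), (376, 2), (377, 1), (378, 0), (379, 2), (380, 1), (381, 0), (381, 3), (382, 2), (384, 3), (385, 1), (385, 3), (387, 2), (388, 4), (389, 3), (390, 4), (391, 3), (392, 3), (393, 2), (394, 4), (395, 3), (396, 1), (397, 1), (398, 0), (398, 3), (400, 1), (401, 2), (402, 1), (403, 0), (404, 1), (405, 0), (405, 3), (407, 2), (409, 2), (410, 1), (411, 1), (412, 2), (413, 1), (414, 2), (415, 3), (416, 3), (417, 4), (418, 3), (419, 1), (420, 3), (421, 2), (422, 2), (423, 1), (425, 1), (426, 0), (427, 2), (428, 1), (429, 0), (430,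 1), (430, 3), (431, 2), (432, 1), (433, 2), (434, 1), (435, 2), (436, 1), (437, 0), (438, 1), (439, 3), (440, 2), (441, 1), (442, 3), (443, 2), (444, 2), (445, 1), (446, 0), (447, 0), (447, 3), (448, 2), (449, 3), (450, 2), (451, 2), (452, 1), (453, 0), (454, 0), (455, 2), (456, 1), (458, 1), (459, 0), (459, 3), (460, 2), (461, 1), (462, 1), (463, 0), (464, 3), (465, 2), (466, 2), (467, 1), (468, 1), (469, 0), (470, 1), (471, 0), (472, 2), (473, 2), (474, 1), (475, 1), (476, 0), (477, 3), (478, 1), (479, 0), (480, 3), (481, 2), (482, 1), (483, 2), (484, 3), (485, 2), (486, 3), (487, 3), (488, 2), (490, 2), (491, 2), (492, 1), (493, 3), (494, 2), (495, 0), (497, 3), (498, 2), (499, 0), (500, 3), (501, 0), (501, 3), (503, 0), (504, 3), (505, 2), (506, 1), (507, 1), (508, 0), (508, 3), (509, 3), (510, 1), (511, 0), (512, 3), (513, 2), (514, 2), (515, 3), (516, 2), (517, 0), (517, 4), (518, 2), (519, 1), (520, 1), (521, 0), (523, 1), (524, 1), (525, 0), (526, 1), (526, 3), (527, 3), (528, 2), (529, 1), (530, 0), (531, 1), (532, 0), (533, 1), (535, 1), (536, 2), (537, 2), (538, 1), (539, 0), (540,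 2), (541, 1), (542, 1), (543, 0), (545, 2), (546, 2), (547, 1), (548, 2), (549, 3), (550, 1), (551, 0), (553, 1), (553, 3), (554, 1), (555, 0), (556, 0), (557, 3), (559, 1), (560, 0), (561, 0), (563, 2), (564, 1), (565, 1), (566, 0), (567, 0), (569, 3), (570, 1), (571, 1), (572, 1), (573, 0), (575, 3), (576, 2), (577, 0), (577, 4), (578, 1), (579, 2), (580, 3), (582, 1), (583, 2), (584, 1), (585, 2), (586, 2), (587, 1), (588, 1), (589, 1), (590, 0), (591, 2), (592, 1), (594, 2), (596, 2), (597, 2), (603, 0), (604, 0), (604, 3), (605, 3), (606, 4), (607, 2), (608, 0), (610, 2), (611, 1), (612, 1), (613, 2), (614, 1), (615, 4), (617, 1), (619, 0), (620, 1), (621, 3), (622, 0), (623, 1), (624, 0), (624, 2), (624, 3), (625, 2), (626, 2), (627, 1), (628, 0), (629, 1), (632, 0), (633, 0), (633, 2), (633, 3), (634, 3), (635, 1), (636, 0), (637, 3), (638, 1), (639, 3), (640, 0), (641, 1), (642, 1), (643, 1), (644, 0), (644, 3), (645, 1), (646, 2), (649, 3), (650, 2), (651, 0), (658, 1), (659, 0), (660, 0), (662, 1), (665, 0), (666, 0), (667, 1), (668, 2), (669, 1), (670, 1), (670, 4), (671, 3), (672,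 2), (675, 0), (676, 1), (677, 0), (678, 1), (679, 1), (680, 3), (681, 0), (682, 0), (684, 1), (685, 0), (687, 1), (688, 1), (689, 1), (692, 4), (694, 3), (696, 1), (697, 0), (699, 1), (703, 1), (704, 2), (705, 2), (706, 1), (707, 0), (707, 3), (708, 3), (709, 3), (710, 2), (711, 1), (712, 1), (713, 0), (714, 1), (715, 2), (716, 3), (717, 3), (718, 3), (719, 2), (720, 2), (721, 0), (724, 0), (725, 2), (726, 1), (727, 3), (728, 3), (729, 3), (730, 3), (731, 2), (732, 0), (733, 1), (734, 2), (735, 1), (737, 3), (738, 1), (740, 3), (741, 1), (741, 3), (742, 1), (743, 2), (744, 1), (745, 0), (746, 2), (747, 3), (749, 3), (750, 3), (751, 0), (753, 0), (754, 0), (755, 2), (756, 1), (757, 3), (758, 0), (759, 1), (760, 3), (761, 0), (762, 3), (764, 2), (765, 0), (766, 1), (768, 0), (769, 3), (770, 3), (771, 2), (772, 3), (773, 2), (774, 2), (775, 2), (776, 3), (777, 0), (778, 0), (780, 0), (780, 2), (780, 3), (781, 3), (782, 2), (783, 2), (784, 2), (785, 3), (786, 1), (787, 4), (789, 3), (790, 3), (791, 2), (792, 2), (793, 2), (794, 2), (795, 4), (797, 0), (798, 1), (799, 0), (801, 3), (803, 0), (805,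 2), (806, 3), (807, 0), (809, 3), (812, 2), (815, 3), (816, 3), (817, 3), (818, 2), (819, 1), (820, 2), (821, 2), (823, 2), (824, 1), (825, 1), (826, 3), (827, 3), (828, 2), (830, 3), (831, 2), (832, 3), (833, 3), (834, 3), (835, 2), (836, 1), (836, 3), (838, 3), (840, 2), (841, 2), (842, 1), (843, 3), (844, 3), (845, 2), (846, 0), (848, 2), (849, 2), (851, 1), (852, 3), (853, 4), (858, 2), (859, 3), (860, 3), (861, 2), (862, 1), (862, 3), (863, 2), (864, 1), (865, 2), (866, 2), (867, 2), (868, 1), (869, 2), (870, 3), (871, 1), (875, 2), (876, 2), (878, 2), (879, 3), (884, 3), (885, 2), (886, 2), (889, 0), (893, 3), (894, 1), (896, 0), (900, 2), (901, 2), (903, 3), (904, 2), (906, 0), (907, 1), (908, 1), (910, 0), (911, 3), (912, 2), (913, 0), (915, 1), (916, 1), (917, 4), (918, 2), (919, 1), (921, 1), (922, 2), (923, 0), (924, 1), (925, 1), (926, 1), (927, 2), (928, 1), (929, 1), (930, 0), (931, 0), (932, 1), (933, 2), (934, 1), (935, 1), (936, 3), (937, 3), (937, 4), (939, 1), (940, 4), (941, 4), (942, 1), (943, 1), (945, 3), (946, 3), (947, 1), (948, 4), (949, 4), (950, 1), (951, 1), (953,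 1), (958, 3), (959, 3), (960, 3), (961, 3), (962, 3), (966, 3), (967, 3), (968, 3)]
/-- Their tree. -/
def tree315_22 : List (ℕ × Bool) := [(0, false), (1, false), (3, false), (4, false), (6, false), (7, false), (12, false), (13, false), (14, false), (19, false), (20, false), (21, false), (31, false), (32, false), (33, false), (34, false), (43, false), (44, false), (45, false), (46, false), (63, false), (64, false), (65, false), (67, false), (86, false), (87, false), (88, false), (90, false), (112, false), (113, false), (115, false), (118, false), (145, false), (146, false), (148, false), (151, false), (180, false), (182, false), (185, false), (186, false), (222, false), (225, false), (267, false), (269, false), (272, false), (314, false), (362, false), (367, false), (936, false), (937, false), (940, false), (941, false), (944, false), (945, false), (946, true), (948, false), (949, false), (955, false), (956, false), (957, false), (958, false), (959, false), (960, false), (961, false), (962, false), (963, false), (964, false), (965, true), (966, false), (967, false), (968, false), (970, false),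 (972, false), (973, false), (974, false), (975, false), (976, false), (977, false), (978, false), (979, false), (49, true), (94, true), (131, false), (210, false), (298, false), (302, false), (307, false), (355, false), (398, false), (403, false), (405, false), (408, false), (459, false), (463, false), (469, false), (501, false), (508, false), (511, false), (517, false), (560, false), (561, false), (566, false), (569, false), (608, false), (618, false), (655, false), (660, false), (698, false), (737, false), (742, true), (779, false), (788, false), (808, false), (828, false), (831, false), (835, false), (837, false), (855, false), (857, false), (861, false), (877, false), (879, false), (883, false), (886, false), (890, false), (891, false), (897, false), (902, false), (920, false), (91, true), (152, true), (219, true), (309, true), (390, true), (400, false), (406, false), (424, false), (497, false), (502, false), (504, false), (522, false), (557, false), (562, false), (568, false), (574, false), (598, false), (605, false), (609, false), (615, false), (630, false), (656, false), (657, false),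 (661, false), (666, true), (695, false), (705, false), (713, false), (724, false), (739, false), (745, false), (770, false), (773, false), (778, false), (797, false), (799, false), (832, false), (840, false), (845, false), (849, false), (856, false), (867, false), (881, false), (882, false), (887, false), (892, false), (895, false), (909, false), (158, true), (197, false), (203, false), (286, false), (327, true), (386, false), (394, false), (446, false), (453, false), (495, false), (498, false), (503, false), (505, false), (551, false), (555, false), (558, false), (599, false), (606, false), (631, false), (663, false), (700, false), (722, false), (752, false), (772, false), (787, false), (800, false), (814, false), (838, false), (844, false), (852, false), (853, false), (872, false), (899, false), (914, false), (917, false), (399, false), (457, false), (496, false), (556, false), (604, false), (616, false), (667, true), (702, false), (741, true), (143, true), (229, true), (293, true), (324, true), (383, false), (544, false), (552, false), (581, false), (593, false), (594, false), (600, false),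 (601, false), (621, false), (636, false), (648, false), (652, false), (654, false), (677, false), (692, false), (707, false), (721, false), (753, false), (780, false), (795, false), (829, false), (834, false), (850, false), (873, false), (880, false), (888, false), (905, false), (489, true), (573, true), (653, false), (665, true), (690, false), (701, false), (142, true), (238, true), (276, true), (292, true), (326, true), (381, false), (543, false), (590, false), (595, false), (602, false), (647, false), (651, false), (664, false), (723, false), (796, false), (802, false), (813, false), (822, false), (858, false), (874, false), (875, false), (239, true), (291, false), (534, true), (693, false), (767, false), (810, true), (847, false), (898, false), (938, false), (691, false), (804, true), (84, true), (235, true), (480, false), (674, false), (683, false), (686, false), (736, false), (751, false), (761, false), (811, false), (839, false), (841, false), (863, false), (748, true), (763, false), (854, false), (189, true), (673, false), (371, true), (580, false), (971, false), (954, false), (952,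 false), (969, false)]
/-- Pairs from the representative 24. -/
def how315_24 : List (ℕ × ℕ) := [(0, 1), (0, 3), (1, 0), (1, 2), (1, 3), (2, 2), (2, 4), (3, 1), (3, 2), (3, 3), (4, 3), (5, 2), (6, 1), (6, 3), (6, 4), (8, 0), (8, 2), (8, 3), (9, 1), (9, 3), (10, 2), (11, 2), (12, 1), (12, 3), (12, 4), (13, 3), (16, 3), (17, 1), (17, 3), (18, 2), (20, 2), (21, 1), (21, 3), (22, 1), (22, 3), (22, 4), (23, 0), (23, 3), (23, 4), (24, 2), (24, 4), (25, 3), (26, 2), (27, 2), (28, 3), (29, 2), (30, 1), (30, 3), (31, 1), (32, 0), (32, 3), (32, 4), (33, 4), (34, 0), (34, 3), (34, 4), (35, 4), (36, 3), (37, 1), (37, 3), (37, 4), (38, 2), (38, 4), (39, 3), (40, 1), (40, 4), (41, 3), (42, 2), (43, 3), (44, 3), (45, 2), (46, 1), (46, 3), (47, 0), (47, 3), (47, 4), (48, 2), (48, 4), (49, 0), (49, 4), (50, 1), (50, 3), (51, 4), (52, 3), (53, 3), (54, 3), (54, 4), (55, 2), (55, 4), (56, 3), (57, 3), (58, 2), (59, 0), (59, 3), (59, 4), (60, 2), (60, 4), (61, 3), (62, 1), (62, 4), (63, 3), (64, 2), (65, 0), (65, 4), (66, 3), (67, 2), (68, 1), (69, 2), (70, 4), (71, 1), (72, 0), (72, 3), (72, 4), (73, 4), (74,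 3), (74, 4), (75, 4), (76, 3), (77, 4), (78, 3), (79, 4), (80, 3), (81, 0), (81, 4), (82, 4), (83, 3), (84, 2), (85, 2), (86, 2), (86, 4), (87, 3), (88, 4), (89, 3), (90, 2), (91, 2), (92, 1), (93, 3), (93, 4), (94, 2), (94, 4), (95, 3), (96, 1), (96, 4), (97, 3), (98, 2), (99, 0), (99, 4), (100, 3), (101, 2), (102, 1), (103, 4), (104, 3), (105, 2), (106, 1), (107, 0), (109, 3), (110, 0), (110, 4), (111, 4), (112, 4), (113, 3), (114, 3), (115, 4), (116, 3), (117, 3), (118, 2), (119, 3), (120, 2), (121, 3), (122, 2), (123, 4), (124, 3), (125, 3), (126, 2), (127, 1), (127, 3), (128, 1), (129, 4), (130, 3), (131, 2), (132, 3), (133, 2), (134, 1), (134, 3), (135, 1), (136, 0), (137, 4), (138, 3), (139, 1), (139, 4), (140, 3), (141, 2), (142, 4), (143, 3), (144, 2), (145, 1), (146, 4), (147, 3), (148, 2), (149, 1), (150, 0), (151, 3), (152, 2), (153, 1), (154, 0), (154, 3), (156, 2), (157, 4), (158, 3), (159, 3), (160, 3), (161, 2), (162, 2), (163, 3), (164, 2), (165, 2), (166, 1), (167, 2), (168, 1), (169, 2), (170, 1), (170, 3), (171, 3), (172, 2), (173, 2), (174, 1), (175, 0), (175, 3), (176,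 2), (177, 0), (177, 3), (178, 3), (179, 2), (180, 1), (180, 3), (181, 2), (182, 1), (182, 3), (183, 0), (184, 4), (185, 0), (186, 1), (187, 3), (188, 2), (189, 4), (190, 3), (191, 2), (192, 1), (192, 3), (193, 3), (194, 2), (195, 1), (196, 0), (197, 3), (198, 2), (199, 1), (200, 0), (200, 3), (202, 2), (203, 1), (203, 3), (204, 0), (204, 3), (206, 2), (207, 1), (208, 3), (209, 2), (210, 2), (211, 2), (212, 3), (213, 1), (214, 2), (215, 1), (216, 1), (217, 0), (218, 1), (219, 0), (219, 3), (220, 1), (220, 3), (221, 0), (222, 2), (222, 4), (223, 2), (224, 1), (224, 3), (225, 1), (226, 0), (226, 3), (227, 1), (228, 2), (229, 1), (230, 3), (231, 2), (232, 2), (233, 1), (233, 3), (234, 0), (235, 4), (236, 1), (236, 3), (237, 0), (238, 2), (238, 4), (239, 1), (241, 1), (241, 3), (242, 0), (242, 2), (243, 2), (245, 3), (246, 2), (247, 1), (247, 3), (248, 0), (249, 4), (250, 2), (251, 1), (252, 0), (252, 3), (254, 2), (255, 3), (256, 3), (257, 3), (258, 2), (259, 1), (260, 0), (261, 2), (262, 1), (263, 2), (264, 3), (265, 0), (267, 3), (268, 3), (269, 1), (269, 3), (270, 2), (270, 4), (271, 0), (271,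 3), (272, 1), (273, 0), (274, 0), (275, 1), (276, 0), (277, 1), (278, 2), (279, 0), (280, 4), (281, 1), (282, 4), (284, 3), (285, 0), (286, 4), (287, 0), (287, 3), (288, 1), (288, 3), (289, 2), (289, 4), (290, 2), (291, 1), (291, 4), (292, 0), (292, 4), (293, 2), (294, 3), (296, 0), (297, 4), (298, 1), (300, 0), (301, 4), (302, 1), (303, 4), (305, 0), (305, 2), (306, 3), (307, 2), (309, 3), (310, 3), (311, 2), (312, 1), (312, 3), (313, 0), (314, 4), (317, 1), (318, 0), (319, 3), (320, 2), (322, 4), (323, 2), (324, 2), (326, 0), (326, 3), (327, 1), (327, 3), (328, 1), (328, 4), (329, 0), (329, 2), (329, 3), (330, 3), (331, 2), (332, 1), (333, 4), (334, 4), (335, 0), (336, 4), (337, 1), (337, 4), (339, 1), (339, 3), (340, 2), (341, 0), (341, 3), (343, 1), (343, 3), (344, 3), (345, 3), (346, 3), (347, 3), (350, 3), (351, 3), (352, 4), (353, 3), (355, 3), (356, 2), (357, 0), (357, 2), (357, 3), (358, 2), (358, 4), (359, 3), (359, 4), (361, 3), (363, 3), (364, 1), (364, 4), (366, 3), (367, 2), (367, 4), (368, 1), (370, 0), (373, 0), (373, 2), (373, 3), (375, 3), (376, 3), (377, 2), (378, 1), (379,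 2), (379, 4), (381, 1), (382, 0), (382, 3), (383, 4), (384, 1), (384, 3), (386, 0), (387, 1), (388, 2), (389, 3), (391, 3), (393, 3), (394, 2), (395, 0), (395, 3), (396, 2), (397, 0), (399, 3), (400, 3), (401, 2), (402, 2), (403, 1), (404, 3), (407, 3), (409, 0), (411, 3), (412, 2), (413, 3), (414, 3), (415, 2), (416, 3), (417, 2), (418, 4), (419, 2), (420, 2), (421, 2), (422, 4), (425, 2), (426, 2), (428, 3), (429, 3), (430, 2), (431, 4), (433, 4), (434, 3), (436, 2), (437, 4), (439, 4), (440, 1), (440, 4), (442, 2), (443, 3), (444, 3), (445, 3), (447, 2), (448, 4), (449, 3), (450, 0), (451, 4), (453, 0), (454, 3), (455, 2), (457, 3), (458, 2), (459, 1), (460, 2), (461, 1), (462, 2), (463, 2), (464, 2), (465, 3), (466, 3), (467, 2), (467, 4), (468, 1), (469, 1), (470, 2), (471, 2), (472, 3), (473, 1), (474, 4), (475, 2), (476, 2), (477, 1), (478, 2), (479, 1), (480, 2), (481, 2), (483, 2), (484, 1), (486, 1), (487, 3), (488, 1), (490, 1), (492, 2), (494, 3), (495, 3), (496, 3), (497, 2), (498, 1), (498, 3), (499, 3), (501, 0), (502, 3), (503, 3), (504, 2), (506, 2), (506, 4), (507, 1), (509,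 2), (510, 3), (511, 3), (513, 2), (515, 2), (516, 1), (517, 0), (517, 3), (518, 3), (519, 0), (519, 3), (520, 1), (521, 1), (522, 3), (524, 2), (525, 1), (525, 3), (525, 4), (527, 0), (528, 0), (528, 2), (528, 4), (529, 3), (530, 3), (531, 4), (532, 0), (533, 3), (534, 3), (535, 1), (536, 0), (536, 4), (537, 1), (538, 0), (538, 3), (539, 1), (541, 1), (542, 0), (543, 0), (544, 4), (545, 0), (546, 0), (547, 3), (548, 2), (548, 4), (550, 2), (552, 0), (553, 4), (554, 2), (557, 2), (558, 1), (559, 3), (561, 3), (562, 4), (563, 2), (564, 2), (565, 1), (567, 0), (568, 3), (570, 2), (571, 3), (573, 0), (574, 0), (576, 1), (576, 3), (577, 0), (578, 4), (580, 1), (581, 2), (581, 4), (582, 3), (585, 4), (589, 4), (590, 0), (591, 4), (593, 0), (596, 0), (597, 0), (602, 1), (607, 1), (610, 1), (614, 3), (615, 1), (616, 1), (617, 0), (618, 1), (620, 1), (622, 1), (623, 1), (624, 3), (625, 4), (629, 1), (629, 3), (634, 1), (637, 1), (640, 0), (640, 2), (640, 3), (641, 3), (642, 2), (643, 3), (644, 0), (644, 3), (645, 1), (647, 3), (648, 2), (648, 4), (652, 3), (655, 2), (655, 4), (656, 3), (658, 2), (658,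 4), (660, 1), (662, 3), (663, 2)]
/-- Their tree. -/
def tree315_24 : List (ℕ × Bool) := [(0, false), (2, false), (6, false), (7, false), (14, false), (15, false), (561, true), (611, true), (613, true), (639, false), (34, true), (54, true), (56, true), (87, true), (286, false), (352, false), (354, false), (424, false), (55, true), (86, true), (90, true), (131, true), (224, false), (284, false), (372, true), (374, true), (88, true), (129, true), (134, true), (172, false), (180, true), (223, false), (304, true), (369, true), (89, true), (130, true), (133, true), (179, true), (236, true), (295, true), (301, true), (303, true), (81, false), (123, false), (124, false), (171, false), (184, true), (235, true), (240, true), (299, true), (132, true), (178, true), (181, true), (182, true), (232, true), (233, true), (238, true), (297, true), (624, false), (643, false), (647, true), (657, true), (663, false), (666, true), (669, true), (675, false), (640, true), (641, false), (648, true), (652, false), (655, true), (656, true), (673, true), (676, false), (644, false), (650, false), (661, false), (662,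 false), (664, true), (665, true), (672, true), (674, false), (646, true), (654, true), (658, true), (659, false), (667, true), (668, false), (670, true), (671, true), (65, false), (99, false), (107, false), (150, false), (342, false), (348, true), (379, true), (451, true), (103, false), (146, false), (155, false), (201, false), (273, false), (279, true), (418, false), (422, true), (104, false), (147, false), (154, false), (200, false), (393, true), (414, false), (452, true), (511, true), (151, false), (197, false), (205, false), (257, false), (326, true), (341, false), (485, false), (489, true), (314, true), (336, true), (497, false), (531, true), (544, false), (551, false), (588, true), (603, false), (380, true), (383, true), (548, false), (549, false), (553, false), (584, true), (585, true), (604, false), (385, true), (408, true), (550, false), (572, true), (586, true), (595, true), (600, false), (606, false), (423, false), (456, true), (556, false), (605, false), (608, false), (621, true), (628, false), (632, true), (49, false), (110, true), (196, false), (309, true), (364, false), (79,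 false), (157, true), (253, false), (292, false), (344, false), (198, false), (258, false), (464, true), (481, false), (564, true), (254, false), (324, false), (394, true), (415, false), (526, true), (247, true), (434, false), (472, true), (533, true), (547, false), (310, true), (494, false), (495, false), (529, true), (566, false), (316, true), (338, true), (496, false), (538, true), (633, false), (351, false), (406, true), (502, false), (594, true), (649, false), (59, true), (72, true), (242, true), (248, false), (435, false), (93, true), (111, true), (308, true), (315, false), (362, false), (255, false), (325, false), (522, true), (540, false), (616, true), (191, true), (360, false), (401, true), (492, false), (493, false), (321, false), (392, false), (465, true), (482, false), (579, true), (243, true), (430, false), (432, false), (470, true), (515, false), (283, false), (405, true), (441, false), (636, true), (651, true), (349, false), (410, true), (500, false), (593, true), (627, true), (438, false), (365, false), (209, true), (266, true), (192, true), (244, true), (543, true), (599,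 true), (94, true), (137, true), (429, false), (457, false), (575, true), (523, true), (390, false), (398, false), (18, true), (45, false), (30, true), (71, false), (427, true), (514, false), (356, true), (455, false), (580, true), (598, false), (626, true), (638, false), (508, false), (635, false), (505, false), (619, false), (27, true), (69, true), (44, true), (108, true), (491, true), (565, false), (426, true), (513, false), (527, true), (542, false), (577, true), (597, false), (499, true), (592, false), (446, false), (569, false), (28, false), (48, true), (287, true), (382, false), (560, false), (630, true), (587, true), (601, false), (43, true), (70, true), (355, true), (454, false), (532, true), (545, false), (554, true), (583, true), (19, false), (77, true), (612, false), (653, true), (300, false), (453, false), (555, true), (637, false), (26, true), (73, true), (609, true), (631, true), (371, false), (512, false), (501, true), (596, false)]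

theorem orb315 : SuzOrd.SuzL2.tbl.orbitOK 1 orbMask315 315 orbChain315 = true := by decide +kernel

theorem cover315 : coverOK SuzOrd.SuzL2.tbl 5 1 orbMask315 stabWords315 repList315 stepList315 = true := by decide +kernel

theorem block315_2 : blockOK SuzOrd.SuzL2.tbl 5 1 2 orbMask315 how315_2 tree315_2 = true := by decide +kernel

theorem block315_5 : blockOK SuzOrd.SuzL2.tbl 5 1 5 orbMask315 how315_5 tree315_5 = true := by decide +kernel

theorem block315_10 : blockOK SuzOrd.SuzL2.tbl 5 1 10 orbMask315 how315_10 tree315_10 = true := by decide +kernel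

theorem block315_22 : blockOK SuzOrd.SuzL2.tbl 5 1 22 orbMask315 how315_22 tree315_22 = true := by decide +kernel

theorem block315_24 : blockOK SuzOrd.SuzL2.tbl 5 1 24 orbMask315 how315_24 tree315_24 = true := by decide +kernel

theorem blocks315 : ∀ d ∈ repList315, ∃ how tree, blockOK SuzOrd.SuzL2.tbl 5 1 d orbMask315 how tree = true := by
  simp only [repList315, List.mem_cons, List.not_mem_nil, or_false, forall_eq_or_imp, forall_eq]
  exact ⟨⟨_, _, block315_2⟩, ⟨_, _, block315_5⟩, ⟨_, _, block315_10⟩, ⟨_, _, block315_22⟩, ⟨_, _, block315_24⟩⟩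

/-- The orbit of size 100. -/
def orbMask100 : ℕ := 0x10d80101ac0c0e3070000306003760702e64c00309b0008f26164804b600b49482b40525054014a08005200004000000000
/-- Its chain. -/
def orbChain100 : List (ℕ × ℕ) := [(0, 38), (3, 38), (4, 38), (1, 60), (3, 60), (4, 60), (4, 57), (3, 62), (0, 75), (3, 75), (4, 75), (4, 81), (3, 86), (3, 83), (2, 88), (1, 98), (3, 98), (4, 98), (4, 100), (3, 102), (3, 108), (2, 113), (2, 110), (1, 116), (3, 116), (2, 129), (4, 129), (4, 126), (3, 128), (3, 131), (2, 133), (2, 139), (1, 147), (3, 147), (1, 142), (3, 142), (3, 153), (4, 152), (4, 166), (3, 169), (3, 165), (2, 168), (2, 171), (1, 174), (3, 174), (1, 183), (3, 183), (0, 198), (3, 198), (4, 197), (3, 190), (2, 189), (4, 189), (2, 207), (4, 207), (3, 225), (2, 224), (1, 231), (3, 231), (0, 237), (3, 237), (4, 236), (0, 251), (3, 251), (4, 250), (3, 274), (2, 273), (4, 273), (4, 263), (4, 261), (3, 285), (4, 285), (3, 301), (0, 309), (3, 309), (4, 308), (1, 257), (3, 257), (2, 254), (4, 254), (3, 330), (2, 329), (4, 329), (2, 351), (4, 351), (3, 204), (4, 204), (3, 341), (4, 205), (3, 361), (2, 186), (3, 192),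 (2, 383), (4, 383), (3, 265), (2, 150), (1, 343), (3, 343), (3, 387)]
/-- Words fixing the first point. -/
def stabWords100 : List (List ℕ) := [[1], [2], [3, 2, 1, 0], [4, 3, 2, 1, 0, 1, 2, 3, 4]]
/-- Representatives. -/
def repList100 : List ℕ := [60, 62]
/-- Covering steps. -/
def stepList100 : List (ℕ × ℕ) := [(0, 60), (2, 60), (3, 60), (1, 75), (2, 75), (3, 75), (0, 129), (3, 129), (1, 150), (2, 150), (0, 166), (2, 166), (3, 166), (2, 205), (1, 98), (3, 98), (1, 272), (2, 118), (0, 152), (2, 152), (3, 152), (3, 126), (3, 100), (1, 328), (2, 328), (0, 197), (2, 197), (3, 197), (3, 81), (1, 350), (0, 258), (2, 258), (2, 207), (3, 207), (0, 113), (2, 113), (1, 155), (2, 155), (2, 273), (0, 168), (2, 168), (3, 168), (2, 361), (2, 284), (1, 186), (2, 186), (0, 237), (2, 237), (3, 237), (3, 147), (2, 133), (0, 128), (3, 128), (3, 261), (2, 227), (3, 227), (3, 228), (0, 165), (2, 165), (3, 309), (0, 251), (3, 198), (2, 62), (3, 62), (0, 153), (2, 153), (3, 153), (1, 83), (2, 83), (1, 116), (2, 116), (3, 116), (0, 281), (2, 281), (3, 281), (1, 265), (2, 265), (0, 102), (2, 102), (0, 190), (2,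 190), (3, 190), (3, 88), (2, 351), (1, 192), (2, 192), (2, 359), (0, 288), (3, 288), (2, 342), (2, 329), (2, 262), (2, 86), (2, 250), (2, 364), (2, 274), (0, 224)]

/-- Pairs from the representative 60. -/
def how100_60 : List (ℕ × ℕ) := [(0, 1), (0, 3), (0, 4), (1, 0), (1, 2), (1, 3), (1, 4), (2, 2), (2, 4), (3, 3), (4, 1), (4, 3), (6, 2), (6, 4), (7, 3), (8, 1), (9, 3), (10, 2), (11, 0), (11, 3), (11, 4), (12, 2), (13, 1), (14, 3), (15, 2), (16, 0), (16, 4), (17, 2), (18, 1), (19, 4), (20, 2), (20, 4), (21, 3), (22, 1), (23, 0), (23, 4), (24, 2), (25, 1), (26, 1), (26, 4), (27, 3), (28, 1), (29, 0), (30, 3), (31, 4), (32, 3), (33, 2), (34, 4), (35, 1), (35, 4), (36, 3), (37, 1), (38, 0), (39, 2), (40, 3), (41, 2), (42, 0), (43, 1), (44, 2), (45, 3), (46, 2), (47, 1), (48, 3), (49, 2), (50, 3), (51, 2), (52, 0), (53, 1), (55, 2), (56, 1), (56, 3), (57, 1), (57, 3), (58, 2), (59, 1), (60, 2), (61, 1), (61, 3), (62, 0), (62, 3), (63, 2), (65, 2), (66, 1), (67, 1), (67, 3), (68, 2), (69, 1), (70, 0), (71, 2), (72, 2), (73, 2), (74, 3), (75, 0), (76, 1), (76, 3), (77, 0), (77, 3), (78, 2), (79,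 3), (80, 2), (81, 1), (82, 1), (83, 0), (83, 3), (84, 2), (84, 3), (85, 2), (86, 3), (87, 0), (88, 1), (88, 3), (89, 1), (90, 3), (91, 1), (92, 2), (92, 4), (93, 3), (94, 0), (94, 3), (95, 4), (96, 1), (96, 3), (97, 2), (98, 1), (99, 2), (100, 4), (101, 0), (101, 3), (102, 0), (103, 1), (104, 2), (105, 3), (106, 2), (107, 1), (108, 4), (109, 3), (110, 0), (110, 3), (111, 2), (112, 0), (113, 2), (114, 3), (115, 4), (117, 2), (118, 1), (118, 3), (119, 2), (121, 3), (122, 2), (123, 1), (124, 0), (125, 4), (126, 3), (127, 1), (127, 3), (128, 2), (129, 1), (130, 3), (131, 4), (132, 2), (133, 1), (134, 0), (134, 4), (136, 2), (137, 3), (138, 2), (138, 4), (139, 1), (139, 4), (140, 1), (140, 4), (141, 1), (142, 2), (144, 4), (145, 0), (145, 3), (146, 2), (146, 4), (147, 4), (148, 2), (149, 1), (150, 0), (150, 4), (151, 1), (152, 3), (153, 2), (154, 0), (154, 3), (155, 2), (156, 4), (157, 2), (158, 2), (159, 3), (160, 1), (161, 4), (162, 4), (163, 3), (164, 1), (164, 4), (165, 2), (165, 4), (166, 1), (166, 4), (168, 0), (168, 4), (169, 3), (170, 4), (171, 3), (172, 0), (173, 3), (174, 3), (175, 3),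 (176, 2), (176, 4), (177, 1), (177, 4), (179, 3), (180, 1), (181, 0), (182, 1), (182, 4), (183, 3), (184, 0), (185, 2), (187, 3), (188, 2), (188, 4), (189, 4), (190, 3), (191, 3), (192, 1), (193, 2), (194, 0), (194, 4), (195, 3), (196, 3), (197, 2), (198, 4), (199, 3), (200, 1), (200, 4), (202, 4), (204, 4), (205, 3), (206, 2), (207, 3), (208, 2), (209, 1), (209, 4), (210, 2), (210, 4), (211, 2), (212, 2), (212, 4), (213, 4), (215, 4), (216, 3), (218, 4), (219, 4), (220, 0), (220, 4), (221, 3), (222, 2), (223, 4), (224, 1), (225, 2), (225, 4), (226, 4), (228, 3), (229, 2), (230, 4), (231, 0), (232, 3), (233, 4), (234, 3), (235, 2), (236, 2), (237, 3), (238, 3), (240, 4), (243, 3), (244, 2), (245, 1), (247, 3), (248, 4), (249, 3), (250, 4), (251, 3), (253, 4), (256, 3), (258, 3), (259, 3), (260, 4), (261, 3), (262, 2), (263, 1), (266, 4), (272, 4), (274, 3), (275, 2), (276, 3), (277, 1), (277, 3), (278, 2), (278, 4), (279, 2), (281, 2), (282, 1), (283, 0), (285, 3), (286, 2), (289, 3), (290, 2), (291, 2), (292, 2), (293, 3), (294, 2), (295, 1), (299, 2), (300, 3), (301, 4), (302, 3), (303,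 4), (304, 4), (307, 1), (308, 0), (309, 1), (310, 2), (311, 1), (311, 3), (312, 2), (314, 3), (315, 1), (315, 3), (317, 1), (317, 3), (319, 1), (320, 4), (322, 4), (329, 3), (330, 4), (331, 1), (332, 4), (333, 3), (334, 4), (336, 2), (336, 4), (337, 0), (340, 4), (342, 0), (344, 4), (346, 1), (348, 1)]
/-- Their tree. -/
def tree100_60 : List (ℕ × Bool) := [(0, false), (1, false), (5, false), (26, false), (35, false), (39, false), (49, false), (54, false), (64, false), (116, false), (135, false), (143, false), (185, true), (201, true), (206, true), (211, true), (224, true), (239, true), (241, true), (244, true), (245, true), (249, false), (252, true), (254, true), (257, true), (262, true), (264, true), (265, true), (267, false), (269, false), (271, false), (273, true), (274, false), (279, true), (280, true), (282, true), (283, true), (284, true), (285, false), (288, false), (289, true), (290, true), (294, true), (295, true), (297, false), (306, true), (308, true), (313, true), (317, true), (318, true), (321, true), (323, true), (335, true), (338, true), (339, true), (341, true), (343, false),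 (345, false), (348, false), (349, true), (350, true), (351, false), (353, false), (153, true), (167, true), (186, true), (203, true), (214, true), (217, true), (222, true), (227, false), (229, false), (246, true), (255, true), (263, true), (268, false), (270, false), (281, true), (305, true), (307, true), (309, true), (316, true), (324, true), (326, true), (329, false), (347, false), (352, true), (178, true), (208, true), (242, true), (287, false), (296, true), (325, true), (327, true), (328, false), (346, true), (120, true), (298, true), (334, true)]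
/-- Pairs from the representative 62. -/
def how100_62 : List (ℕ × ℕ) := [(0, 0), (0, 3), (1, 1), (1, 3), (2, 2), (3, 0), (3, 2), (3, 3), (4, 2), (5, 1), (6, 1), (6, 2), (6, 3), (7, 3), (8, 2), (9, 1), (10, 0), (10, 4), (11, 2), (12, 1), (12, 3), (13, 2), (14, 2), (15, 1), (16, 0), (16, 3), (17, 1), (17, 3), (17, 4), (18, 3), (19, 1), (19, 3), (20, 3), (21, 2), (22, 1), (23, 1), (23, 3), (24, 0), (24, 3), (25, 1), (25, 3), (26, 2), (26, 4), (27, 0), (27, 2), (27, 3), (28, 2), (29, 3), (30, 2), (31, 3), (32, 2), (33, 2), (34, 1), (35, 0), (35, 3), (36, 0), (36, 3), (37, 4), (38, 1), (39, 2), (40, 3), (41, 2), (42, 3), (43, 3), (44, 3), (45, 3), (46, 2), (47, 1), (47, 3), (48, 2), (49, 1), (49, 3), (50, 2), (51, 1), (52, 1), (52, 3), (53, 4), (54, 1), (54, 3), (55, 2), (56, 3), (57, 2), (57, 4), (58, 3), (59, 0), (60, 1), (61, 2), (62, 4), (63, 2), (64, 2), (65, 2), (66, 2), (66, 4), (67, 1), (68, 0), (69, 4), (70, 1), (71, 3), (72, 4), (73, 1), (74, 0), (75, 0), (75, 3), (77, 3), (78, 3), (79, 2), (79, 4), (80, 3), (81, 2), (82, 3), (83, 3), (85, 3), (86, 0), (87, 1), (88, 3), (89, 1), (90,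 1), (91, 1), (91, 3), (92, 1), (92, 3), (92, 4), (94, 0), (94, 4), (95, 1), (95, 3), (95, 4), (96, 3), (97, 3), (98, 2), (98, 4), (100, 3), (101, 3), (102, 1), (103, 2), (104, 2), (105, 2), (105, 4), (106, 1), (106, 3), (106, 4), (108, 2), (109, 1), (109, 3), (110, 4), (112, 2), (113, 1), (114, 0), (115, 2), (116, 0), (117, 3), (118, 3), (120, 0), (120, 3), (121, 4), (124, 3), (125, 3), (125, 4), (126, 4), (127, 3), (128, 2), (129, 2), (130, 4), (132, 2), (133, 2), (134, 3), (136, 3), (137, 1), (137, 4), (139, 3), (139, 4), (140, 4), (142, 1), (142, 4), (143, 3), (144, 4), (145, 3), (146, 1), (146, 3), (147, 0), (148, 3), (149, 1), (150, 1), (151, 2), (152, 2), (154, 2), (154, 4), (156, 2), (157, 4), (158, 3), (159, 3), (160, 2), (161, 3), (163, 3), (164, 3), (165, 1), (165, 3), (166, 2), (167, 2), (168, 4), (170, 4), (171, 3), (172, 3), (173, 0), (173, 4), (174, 3), (175, 4), (177, 2), (178, 3), (179, 4), (180, 3), (181, 2), (181, 4), (182, 0), (183, 0), (184, 1), (185, 4), (186, 4), (188, 1), (189, 3), (190, 2), (191, 2), (192, 1), (194, 2), (195, 4), (196, 3), (198, 3), (201, 3), (202,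 2), (203, 2), (204, 1), (205, 3), (208, 1), (208, 3), (209, 2), (211, 4), (212, 4), (214, 1), (215, 2), (215, 4), (216, 0), (219, 0), (221, 1), (222, 1), (227, 4), (229, 1), (231, 0), (233, 3), (239, 4), (241, 4), (242, 3), (247, 2), (248, 4), (250, 3), (252, 3)]
/-- Their tree. -/
def tree100_62 : List (ℕ × Bool) := [(0, false), (14, false), (17, false), (23, false), (27, false), (36, false), (45, false), (76, false), (79, false), (93, true), (95, false), (103, false), (105, false), (106, false), (122, true), (123, false), (125, false), (135, false), (137, false), (139, false), (153, false), (168, false), (179, false), (181, false), (195, false), (197, false), (209, false), (211, false), (212, false), (215, false), (226, false), (227, false), (235, false), (239, false), (254, false), (255, false), (66, true), (92, true), (107, false), (120, true), (138, false), (141, false), (169, false), (171, false), (194, true), (200, false), (206, true), (210, false), (213, false), (224, true), (225, false), (232, true), (236, false), (237, false), (240, false), (245, false), (249, false), (84, false),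 (111, false), (130, true), (142, true), (155, true), (162, true), (173, true), (187, true), (191, false), (203, false), (220, false), (228, false), (99, true), (152, true), (176, true), (223, false), (243, false), (246, false), (108, true), (129, true), (214, true), (218, true), (222, false), (230, false), (119, true), (131, true), (192, false), (207, true), (221, false), (229, false), (110, true), (217, true), (238, true), (244, false), (160, false), (190, false), (193, false), (234, false), (167, false), (253, false), (199, false), (251, false)]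

theorem orb100 : SuzOrd.SuzL2.tbl.orbitOK 38 orbMask100 100 orbChain100 = true := by decide +kernel

theorem cover100 : coverOK SuzOrd.SuzL2.tbl 5 38 orbMask100 stabWords100 repList100 stepList100 = true := by decide +kernel

theorem block100_60 : blockOK SuzOrd.SuzL2.tbl 5 38 60 orbMask100 how100_60 tree100_60 = true := by decide +kernel

theorem block100_62 : blockOK SuzOrd.SuzL2.tbl 5 38 62 orbMask100 how100_62 tree100_62 = true := by decide +kernel

theorem blocks100 : ∀ d ∈ repList100, ∃ how tree, blockOK SuzOrd.SuzL2.tbl 5 38 d orbMask100 how tree = true := by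
  simp only [repList100, List.mem_cons, List.not_mem_nil, or_false, forall_eq_or_imp, forall_eq]
  exact ⟨⟨_, _, block100_60⟩, ⟨_, _, block100_62⟩⟩

/-- A word carrying the base point to the orbit of size 100. -/
def wordV : List ℕ := [5, 1, 2, 3, 2, 1, 5]
/-- A member that the word carries to the other orbit. -/
def memM : ℕ := 60

end Cfsg.Agent.G24Iso
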