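import Cfsg.Agent.G24Iso.Mat

/-!
# Six generators of G2(4) and the root elements as words in them
-/

set_option autoImplicit false
set_option maxRecDepth 20000

namespace Cfsg.Agent.G24Iso

open Cfsg.Lie

/-- The generators as products of root elements. -/
def genWord : ℕ → List (Fin chevG2.nroots × C4)
  | 0 => [(⟨11, by decide⟩, (true, false))]
  | 1 => [(⟨5, by decide⟩, (false, true)), (⟨7, by decide⟩, (true, false)), (⟨4, by decide⟩, (true, false)), (⟨5, by decide⟩, (false, true)), (⟨5, by decide⟩, (true, false)), (⟨4, by decide⟩, (true, false)), (⟨5, by decide⟩, (true, false)), (⟨11, by decide⟩, (true, false)), (⟨5, by decide⟩, (true, false)), (⟨4, by decide⟩, (true, false)), (⟨5, by decide⟩, (true, false)), (⟨5, by decide⟩, (false, true)), (⟨4,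 by decide⟩, (true, false)), (⟨7, by decide⟩, (true, false)), (⟨5, by decide⟩, (false, true))]
  | 2 => [(⟨4, by decide⟩, (false, true)), (⟨4, by decide⟩, (true, false)), (⟨6, by decide⟩, (true, false)), (⟨5, by decide⟩, (true, false)), (⟨11, by decide⟩, (true, false)), (⟨5, by decide⟩, (true, false)), (⟨6, by decide⟩, (true, false)), (⟨4, by decide⟩, (true, false)), (⟨4, by decide⟩, (false, true))]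
  | 3 => [(⟨4, by decide⟩, (true, false)), (⟨5, by decide⟩, (false, true)), (⟨5, by decide⟩, (true, false)), (⟨7, by decide⟩, (false, true)), (⟨4, by decide⟩, (true, false)), (⟨6, by decide⟩, (false, true)), (⟨7, by decide⟩, (true, false)), (⟨9, by decide⟩, (true, false)), (⟨7, by decide⟩, (true, false)), (⟨6, by decide⟩, (false, true)), (⟨4, by decide⟩, (true, false)), (⟨7, by decide⟩, (false, true)), (⟨5, by decide⟩, (true, false)), (⟨5, by decide⟩, (false, true)), (⟨4, by decide⟩, (true, false))]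
  | 4 => [(⟨4, by decide⟩, (false, true)), (⟨4, by decide⟩, (true, false)), (⟨5, by decide⟩, (false, true)), (⟨5, by decide⟩, (true, false)), (⟨4, by decide⟩, (true, false)), (⟨6, by decide⟩, (true, false)), (⟨7, by decide⟩, (true, false)), (⟨9, by decide⟩, (true, false)), (⟨7, by decide⟩, (true, false)), (⟨6, by decide⟩, (true, false)), (⟨4, by decide⟩, (true, false)), (⟨5, by decide⟩, (true, false)), (⟨5, by decide⟩, (false, true)), (⟨4, by decide⟩, (true, false)), (⟨4, by decide⟩, (false, true))]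
  | 5 => [(⟨5, by decide⟩, (true, false)), (⟨6, by decide⟩, (false, true)), (⟨5, by decide⟩, (false, true)), (⟨11, by decide⟩, (true, false)), (⟨5, by decide⟩, (false, true)), (⟨6, by decide⟩, (false, true)), (⟨5, by decide⟩, (true, false))]
  | _ => []

/-- The generators as rows. -/
def genRows : ℕ → M14
  | 0 => [(5, 0), (2, 0), (4, 0), (8, 0), (16, 0), (32, 0), (64, 0), (128, 0), (264, 0), (512, 0), (1040, 0), (2080, 0), (4224, 0), (8198, 0)]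
  | 1 => [(12296, 4486), (12289, 397), (4107, 8448), (12431, 4354), (1024, 1552), (2112, 2112), (96, 2144), (0, 12555), (4108, 143), (1552, 1552), (528, 512), (96, 2112), (12422, 397), (4236, 139)]
  | 2 => [(9, 32), (154, 48), (4, 0), (12, 0), (16, 4), (36, 4), (104, 8), (132, 0), (409, 112), (528, 128), (1584, 171), (2281, 153), (4763, 560), (13568, 3072)]
  | 3 => [(593, 26), (142, 44), (4, 0), (172, 48), (176, 140), (56, 136), (126, 716), (156, 52), (6577, 3740), (526, 600), (7868, 4385), (4010, 4574), (6001, 3803), (13157, 2965)]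
  | 4 => [(671, 750), (158, 12), (4, 0), (172, 48), (184, 160), (44, 144), (646, 226), (188, 4), (7099, 3650), (28, 762), (7596, 6770), (2527, 5220), (7679, 79), (14207, 283)]
  | 5 => [(1, 4), (2, 0), (4, 0), (8, 0), (16, 0), (32, 0), (64, 0), (128, 0), (256, 8), (512, 0), (1024, 16), (2048, 32), (4096, 128), (8196, 6)]
  | _ => one14

/-- The root elements as words in the generators. -/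
def rootWords : List (List ℕ) := [
  [4, 3, 1, 2, 3, 4, 0, 1, 2, 3, 2, 0, 1, 0, 1, 0, 2, 3, 2, 1, 0, 4, 3, 2, 1, 3, 4],
  [4, 3, 1, 2, 0, 1, 5, 3, 4, 2, 3, 2, 1, 0, 1, 0, 1, 0, 1, 2, 3, 2, 4, 3, 5, 1, 0, 2, 1, 3, 4],
  [0, 1, 5, 1, 2, 1, 0, 1, 5, 2, 3, 4, 2, 3, 2, 1, 0, 1, 2, 3, 2, 4, 3, 2, 5, 1, 0, 1, 2, 1, 5, 1, 0],
  [3, 2, 1, 5, 4, 2, 3, 1, 2, 3, 4, 1, 2, 3, 2, 1, 0, 1, 2, 3, 2, 1, 4, 3, 2, 1, 3, 2, 4, 5, 1, 2, 3],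
  [1, 2, 0, 1, 5, 1, 2, 3, 4, 0, 1, 2, 3, 2, 1, 0, 1, 2, 3, 2, 1, 0, 4, 3, 2, 1, 5, 1, 0, 2, 1, 2, 1, 0, 1, 5, 3, 4, 2, 3, 2, 1, 0, 1, 0, 1, 0, 1, 2, 3, 2, 4, 3, 5, 1, 0, 1, 2, 4, 1, 2, 3, 2, 1, 5, 3, 4, 2, 3, 1, 2, 1, 0, 1, 0, 1, 0, 1, 2, 1, 3, 2, 4, 3, 5, 1, 2, 3, 2, 1, 4],
  [2, 3, 1, 2, 3, 4, 0, 1, 2, 3, 2, 0, 1, 0, 1, 0, 2, 3, 2, 1, 0, 4, 3, 2, 1, 3, 2, 0, 1, 2, 3, 2, 1, 5, 4, 2, 3, 2, 0, 1, 0, 1, 0, 2, 3, 2, 4, 5, 1, 2, 3, 2, 1, 0, 5, 4, 2, 3, 2, 0, 1, 0, 1, 0, 1, 0, 1, 0, 2, 3, 2, 4, 5],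
  [2, 0, 1, 5, 1, 2, 3, 1, 2, 0, 1, 0, 1, 0, 2, 1, 3, 2, 1, 5, 1, 0, 2, 1, 5, 3, 4, 1, 0, 1, 2, 3, 1, 2, 0, 1, 0, 1, 0, 2, 1, 3, 2, 1, 0, 1, 4, 3, 5, 1, 1, 2, 3, 4, 1, 2, 3, 2, 0, 1, 5, 0, 1, 0, 1, 0, 5, 1, 0, 2, 3, 2, 1, 4, 3, 2, 1],
  [0, 1, 5, 2, 3, 2, 1, 0, 1, 2, 3, 2, 5, 1, 0, 3, 2, 0, 1, 5, 4, 2, 3, 2, 1, 0, 1, 0, 1, 0, 1, 2, 3, 2, 4, 5, 1, 0, 2, 3, 1, 2, 3, 4, 1, 2, 3, 2, 1, 0, 1, 2, 3, 2, 1, 4, 3, 2, 1],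
  [0, 1, 2, 0, 1, 0, 1, 5, 1, 2, 3, 4, 2, 3, 2, 0, 1, 0, 1, 0, 2, 3, 2, 4, 3, 2, 1, 5, 1, 0, 1, 0, 2, 1, 0, 0, 1, 5, 4, 3, 2, 3, 1, 2, 0, 1, 0, 1, 0, 2, 1, 3, 2, 3, 4, 5, 1, 0, 5, 3, 1, 2, 3, 2, 1, 5, 4, 2, 3, 1, 2, 0, 1, 0, 1, 0, 2, 1, 3, 2, 4, 5, 1, 2, 3, 2, 1, 3, 5],
  [3, 2, 3, 2, 1, 0, 1, 5, 4, 2, 3, 1, 2, 0, 1, 0, 1, 0, 2, 1, 3, 2, 4, 5, 1, 0, 1, 2, 3, 2, 3, 2, 1, 5, 4, 3, 2, 3, 4, 1, 2, 3, 2, 1, 0, 1, 2, 3, 2, 1, 4, 3, 2, 3, 4, 5, 1, 2, 0, 1, 5, 2, 3, 4, 1, 0, 1, 2, 3, 2, 1, 0, 1, 2, 3, 2, 1, 0, 1, 4, 3, 2, 5, 1, 0],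
  [4, 3, 1, 2, 3, 4, 1, 2, 3, 2, 0, 1, 0, 1, 0, 2, 3, 2, 1, 4, 3, 2, 1, 3, 4],
  [4, 3, 2, 1, 5, 2, 3, 4, 2, 3, 2, 1, 0, 1, 0, 1, 0, 1, 2, 3, 2, 4, 3, 2, 5, 1, 2, 3, 4],
  [3, 1, 2, 0, 1, 5, 1, 2, 1, 0, 1, 0, 1, 0, 1, 2, 1, 5, 1, 0, 2, 1, 3],
  [1, 0, 1, 5, 3, 1, 2, 0, 1, 0, 1, 0, 2, 1, 3, 5, 1, 0, 1],
  [3, 0, 1, 2, 3, 4, 1, 2, 3, 2, 1, 0, 1, 2, 3, 2, 1, 4, 3, 2, 1, 0, 3, 2, 0, 1, 5, 2, 3, 4, 2, 3, 2, 1, 0, 1, 0, 1, 0, 1, 2, 3, 2, 4, 3, 2, 5, 1, 0, 2, 0, 1, 0, 1, 5, 2, 3, 4, 2, 3, 2, 1, 0, 1, 2, 3, 2, 4, 3, 2, 5, 1, 0, 1, 0],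
  [2, 3, 2, 0, 1, 5, 2, 3, 4, 2, 3, 2, 1, 0, 1, 2, 3, 2, 4, 3, 2, 5, 1, 0, 2, 3, 2, 4, 2, 3, 2, 1, 5, 2, 1, 0, 1, 0, 1, 0, 1, 2, 5, 1, 2, 3, 2, 4, 5, 1, 2, 3, 4, 1, 2, 3, 2, 0, 1, 5, 1, 2, 1, 0, 1, 0, 1, 0, 1, 2, 1, 5, 1, 0, 2, 3, 2, 1, 4, 3, 2, 1, 5],
  [1, 5, 2, 3, 1, 2, 0, 1, 0, 1, 5, 3, 4, 2, 3, 2, 0, 1, 0, 1, 0, 2, 3, 2, 4, 3, 5, 1, 0, 1, 0, 2, 1, 3, 2, 5, 1, 1, 5, 2, 1, 0, 1, 2, 5, 1, 4, 2, 3, 1, 2, 0, 1, 5, 1, 2, 1, 0, 1, 0, 1, 0, 1, 2, 1, 5, 1, 0, 2, 1, 3, 2, 4],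
  [5, 0, 1, 0, 1, 5, 2, 3, 2, 1, 0, 1, 2, 3, 2, 5, 1, 0, 1, 0, 5, 2, 1, 5, 3, 4, 2, 3, 2, 0, 1, 0, 1, 0, 1, 0, 1, 0, 2, 3, 2, 4, 3, 5, 1, 2, 5, 3, 4, 1, 0, 1, 2, 3, 1, 2, 0, 1, 0, 1, 0, 2, 1, 3, 2, 1, 0, 1, 4, 3, 5],
  [5, 1, 0, 1, 5, 1, 2, 3, 4, 2, 3, 2, 0, 1, 0, 1, 0, 1, 0, 1, 0, 2, 3, 2, 4, 3, 2, 1, 5, 1, 0, 1, 5, 1, 5, 4, 3, 2, 3, 4, 3, 1, 2, 3, 1, 2, 0, 1, 0, 1, 0, 2, 1, 3, 2, 1, 3, 4, 3, 2, 3, 4, 5, 1, 3, 1, 2, 3, 2, 1, 5, 1, 2, 3, 4, 2, 3, 2, 1, 0, 1, 2, 3, 2, 4, 3, 2, 1, 5, 1, 2, 3, 2, 1, 3],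
  [2, 0, 1, 5, 3, 2, 1, 0, 1, 5, 3, 4, 2, 3, 2, 1, 0, 1, 2, 3, 2, 4, 3, 5, 1, 0, 1, 2, 3, 5, 1, 0, 2, 2, 0, 1, 5, 0, 1, 2, 3, 4, 2, 3, 2, 1, 0, 1, 2, 3, 2, 4, 3, 2, 1, 0, 5, 1, 0, 2, 0, 1, 2, 3, 2, 1, 0, 1, 5, 4, 2, 3, 1, 2, 0, 1, 0, 1, 0, 2, 1, 3, 2, 4, 5, 1, 0, 1, 2, 3, 2, 1, 0],
  [1, 2, 3, 0, 1, 0, 1, 2, 3, 4, 1, 2, 3, 2, 1, 0, 1, 2, 3, 2, 1, 4, 3, 2, 1, 0, 1, 0, 3, 2, 1],
  [1, 0, 1, 5, 2, 3, 1, 0, 1, 2, 3, 4, 0, 1, 2, 3, 2, 1, 0, 1, 2, 3, 2, 1, 0, 4, 3, 2, 1, 0, 1, 3, 2, 5, 1, 0, 1],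
  [0],
  [1, 5, 0, 1, 0, 1, 0, 1, 0, 1, 0, 5, 1]]

end Cfsg.Agent.G24Iso
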